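import Mathlib
import Cfsg.Agent.OT.Defs

/-!
# Doubly transitive groups with a normal rank one group of even characteristic in a point
stabilizer: definitions
-/

set_option autoImplicit false

namespace Cfsg.Agent.HI

open Subgroup MulAction Cfsg.Agent.TT Cfsg.Agent.Perm Cfsg.Agent.Perm.TT Cfsg.Agent.Loc.Mss
open Cfsg.Agent.OT

universe u v

section Group

variable {G : Type u} [Group G]

/-- The center of `S` as a subgroup of the ambient group. -/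
abbrev Zc (S : Subgroup G) : Subgroup G := S ⊓ 𝐂[S]

/-- The common normalizer in `N` of two subgroups. -/
abbrev Hs (N S R : Subgroup G) : Subgroup G := N ⊓ (𝐍[S] ⊓ 𝐍[R])

/-- The centralizer of one element. -/
abbrev C1 (t : G) : Subgroup G := centralizer ({t} : Set G)

/-- What is used about `L₂(q)`, `Sz(q)`, `U₃(q)` with `q` even. -/
structure BN (N : Subgroup G) (q : ℕ) : Prop where
  simple : ∀ M ≤ N, N ≤ 𝐍[M] → M = ⊥ ∨ M = N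
  two : ∀ {S : Subgroup G}, Syl 2 S N → ∃ R, Syl 2 R N ∧ R ≠ S
  om : ∀ {S : Subgroup G}, Syl 2 S N → ∀ x ∈ S, x * x = 1 ↔ x ∈ 𝐂[S]
  sq : ∀ {S : Subgroup G}, Syl 2 S N → ∀ x ∈ S, x * x ∈ 𝐂[S]
  cardZ : ∀ {S : Subgroup G}, Syl 2 S N → Nat.card (Zc S) = q
  four : 4 ≤ q
  ti : ∀ {S R : Subgroup G}, Syl 2 S N → Syl 2 R N → ∀ x ∈ S, x ∈ R → x ≠ 1 → S = R
  reg : ∀ {S R R' : Subgroup G}, Syl 2 S N → Syl 2 R N → Syl 2 R' N → R ≠ S → R' ≠ S →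
    ∃ s ∈ S, cj(s, R) = R'
  cyc : ∀ {S R : Subgroup G}, Syl 2 S N → Syl 2 R N → R ≠ S → IsCyclic (Hs N S R)
  trans : ∀ {S R : Subgroup G}, Syl 2 S N → Syl 2 R N → R ≠ S → ∀ z ∈ Zc S, ∀ z' ∈ Zc S,
    z ≠ 1 → z' ≠ 1 → ∃ h ∈ Hs N S R, h * z * h⁻¹ = z'
  fpf : ∀ {S R : Subgroup G}, Syl 2 S N → Syl 2 R N → R ≠ S → ∀ h ∈ Hs N S R, h ≠ 1 →
    ∀ s ∈ S, h * s * h⁻¹ * s⁻¹ ∈ 𝐂[S] → s ∈ 𝐂[S]
  ca : ∀ {S : Subgroup G}, Syl 2 S N → ∀ y ∈ S, y ∉ 𝐂[S] → ∀ a ∈ S, ∀ b ∈ S,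
    Commute a y → Commute b y → Commute a b
  hom : ∀ {S R : Subgroup G}, Syl 2 S N → Syl 2 R N → R ≠ S → ∀ φ : G → G,
    (∀ x ∈ S, φ x ∈ Zc S) → (∀ x ∈ S, ∀ y ∈ S, φ (x * y) = φ x * φ y) → (∀ x ∈ Zc S, φ x = 1) →
    (∀ h ∈ Hs N S R, ∀ x ∈ S, φ (h * x * h⁻¹) = h * φ x * h⁻¹) → ∀ x ∈ S, φ x = 1
  cases : ∀ {S R : Subgroup G}, Syl 2 S N → Syl 2 R N → R ≠ S → Nat.card S = q ∨
    (Nat.card S = q ^ 2 ∧ (∃ n, Odd n ∧ q = 2 ^ n) ∧
      ∀ x ∈ S, ∀ y ∈ S, x * x = y * y → x⁻¹ * y ∈ 𝐂[S]) ∨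
    (Nat.card S = q ^ 3 ∧
      (Nat.card (Hs N S R) + 1 = q ^ 2 ∨ 3 * Nat.card (Hs N S R) + 1 = q ^ 2))

/-- An involution normalizing `N` and `S` that lies outside `S C(N)`. -/
structure Oi (N S : Subgroup G) (t : G) : Prop where
  nN : t ∈ 𝐍[N]
  nS : t ∈ 𝐍[S]
  sq : t * t = 1
  nm : ∀ s ∈ S, s * t ∉ 𝐂[N]

theorem mem_Zc {S : Subgroup G} {x : G} : x ∈ Zc S ↔ x ∈ S ∧ x ∈ 𝐂[S] := Iff.rfl

theorem mem_Hs {N S R : Subgroup G} {x : G} : x ∈ Hs N S R ↔ x ∈ N ∧ x ∈ 𝐍[S] ∧ x ∈ 𝐍[R] :=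
  Iff.rfl

theorem mem_C1 {t x : G} : x ∈ C1 t ↔ Commute x t := mem_centralizer_singleton_iff

theorem Hs_comm (N S R : Subgroup G) : Hs N S R = Hs N R S := by rw [Hs, inf_comm 𝐍[S]]

theorem norm_Zc {S : Subgroup G} : 𝐍[S] ≤ 𝐍[Zc S] := norm_inf le_rfl (norm_cent le_rfl)

theorem cj_Zc (g : G) (S : Subgroup G) : cj(g, Zc S) = Zc cj(g, S) := by rw [cj_inf, cj_cent]

theorem comm_of_cent {S : Subgroup G} {x s : G} (hx : x ∈ 𝐂[S]) (hs : s ∈ S) : Commute s x :=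
  mem_cent.1 hx s hs

end Group

section Perm

variable {G : Type u} {X : Type v} [Group G] [MulAction G X]

/-- The standing hypothesis. -/
structure Hy (N : X → Subgroup G) (q : ℕ) : Prop where
  two : Two G X
  fam : Fam N
  bn : ∀ x, BN (N x) q
  nreg : ¬ HasReg G X

/-- The lines: Sylow 2-subgroups of the groups `N x`. -/
def Ln (N : X → Subgroup G) (S : Subgroup G) : Prop := ∃ x, Syl 2 S (N x)

/-- Even degree: the fixed point sets of the lines form a linear space. -/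
structure Geo (N : X → Subgroup G) (q : ℕ) : Prop extends Hy N q where
  even : Even (Nat.card X)
  src : ∀ x, SR x 𝐂[N x]
  syl : ∀ {S : Subgroup G} {x : X}, Ln N S → x ∈ Fx X S → Syl 2 S (N x)
  fix : ∀ {S : Subgroup G} {x : X} {s : G}, Ln N S → s ∈ S → s ≠ 1 → s • x = x → x ∈ Fx X S
  ex : ∀ {a b : X}, a ≠ b → ∃ S, Syl 2 S (N a) ∧ b ∈ Fx X S

/-- Two different lines, one normalized by an involution of the other. -/
structure Adj (N : X → Subgroup G) (S S' : Subgroup G) : Prop where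
  l1 : Ln N S
  l2 : Ln N S'
  ne : S ≠ S'
  nb : Zc S ⊓ 𝐍[S'] ≠ ⊥

/-- The first case: the centers of adjacent lines commute. -/
def TyI (N : X → Subgroup G) : Prop := ∀ S S', Adj N S S' →
  Zc S ≤ 𝐂[Zc S'] ∧ Nat.card (S ⊓ 𝐍[S'] : Subgroup G) = (Fx X S').ncard

/-- The second case. -/
def TyII (N : X → Subgroup G) : Prop := ∀ S S', Adj N S S' → ¬ Zc S ≤ 𝐍[S']

/-- Odd degree. -/
structure Od (N : X → Subgroup G) (q : ℕ) : Prop extends Hy N q where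
  odd : Odd (Nat.card X)
  src : ∀ x, SR x 𝐂[N x]
  oddC : ∀ x, Odd (Nat.card 𝐂[N x])
  W1 : ∀ {x y : X}, x ≠ y → N x ⊓ N y ≠ ⊥
  evenK : ∀ {x y : X}, x ≠ y → Even (Nat.card (Kp N x y))

/-- An involution of some `N y` lies in `N x` for each of its fixed points `x`. -/
def Cl (N : X → Subgroup G) : Prop := ∀ (x y : X), ∀ t ∈ N y, t * t = 1 → t • x = x → t ∈ N x

/-- All the Sylow 2-subgroups of the groups `N x` have order four. -/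
def Four (N : X → Subgroup G) : Prop := ∀ S, Ln N S → Nat.card S = 4

variable {N : X → Subgroup G} {S : Subgroup G} {x : X}

theorem _root_.Cfsg.Agent.OT.Fam.syl_smul (h : Fam N) (hS : Syl 2 S (N x)) (g : G) :
    Syl 2 cj(g, S) (N (g • x)) := h.cj_eq g x ▸ hS.cj g

theorem _root_.Cfsg.Agent.OT.Fam.ln_cj (h : Fam N) (hS : Ln N S) (g : G) : Ln N cj(g, S) :=
  hS.elim fun x hx => ⟨g • x, h.syl_smul hx g⟩

theorem _root_.Cfsg.Agent.OT.Fam.mem_Fx_of_syl (h : Fam N) (hS : Syl 2 S (N x)) : x ∈ Fx X S :=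
  fun s hs => h.le x s (hS.le hs)

theorem smul_mem_Fx_cj {g : G} : g • x ∈ Fx X cj(g, S) ↔ x ∈ Fx X S :=
  ⟨fun h s hs => conj_smul_iff.1 (h _ (conj_mem_cj hs)), fun h s hs => by
    obtain ⟨r, hr, rfl⟩ := hs
    exact conj_smul_iff.2 (h r hr)⟩

theorem smul_mem_Fx {g : G} (hg : g ∈ 𝐍[S]) (hx : x ∈ Fx X S) : g • x ∈ Fx X S := by
  rw [← cj_of_norm hg]
  exact smul_mem_Fx_cj.2 hx

end Perm

end Cfsg.Agent.HI
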