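import Mathlib
import Cfsg.Agent.HI.Defs
import Cfsg.Agent.FG.H93Cyc
import Cfsg.Agent.ZD.L45A

/-! Basic consequences of the structure `BN`. -/

set_option autoImplicit false

namespace Cfsg.Agent.HI

open Subgroup MulAction Cfsg.Agent.TT Cfsg.Agent.Perm Cfsg.Agent.Perm.TT Cfsg.Agent.Loc.Mss
open Cfsg.Agent.OT

universe u v

variable {G : Type u} [Group G] [Finite G] {N S R : Subgroup G} {q : ℕ}

set_option linter.unusedSectionVars false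

/-- Conjugation on subgroups. -/
@[reducible] def actS (G : Type u) [Group G] : MulAction G (Subgroup G) where
  smul g A := cj(g, A)
  one_smul := cj_one
  mul_smul g k A := (cj_cj A k g).symm

/-- Conjugation on elements. -/
@[reducible] def actE (G : Type u) [Group G] : MulAction G G :=
  MulAction.compHom G (MulAut.conj (G := G))

/-- Orbit and stabilizer for conjugation of subgroups. -/
theorem card_orbS {H A : Subgroup G} {Δ : Set (Subgroup G)}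
    (h : ∀ B, B ∈ Δ ↔ ∃ g ∈ H, cj(g, A) = B) :
    Nat.card H = Δ.ncard * Nat.card (H ⊓ 𝐍[A] : Subgroup G) := by
  let _ := actS G
  have h1 : TwoCount.T1 H Δ := ⟨fun g hg B hB => ?_, fun B hB D hD => ?_⟩
  · have := h1.card (a := A) ((h A).2 ⟨1, one_mem _, cj_one A⟩)
    rwa [show stabilizer G A = 𝐍[A] from Subgroup.ext fun g => cj_eq_iff] at this
  · obtain ⟨k, hk, rfl⟩ := (h B).1 hB
    exact (h _).2 ⟨g * k, mul_mem hg hk, (cj_cj A k g).symm⟩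
  · obtain ⟨k, hk, rfl⟩ := (h B).1 hB
    obtain ⟨l, hl, rfl⟩ := (h D).1 hD
    refine ⟨l * k⁻¹, mul_mem hl (inv_mem hk), (cj_cj A k _).trans ?_⟩
    rw [inv_mul_cancel_right]

/-- Orbit and stabilizer for conjugation of elements. -/
theorem card_orbE {H : Subgroup G} {a : G} {Δ : Set G} (h : ∀ b, b ∈ Δ ↔ ∃ g ∈ H, g * a * g⁻¹ = b) :
    Nat.card H = Δ.ncard * Nat.card (H ⊓ C1 a : Subgroup G) := by
  have h1 : @TwoCount.T1 G G _ (actE G) H Δ :=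
    @TwoCount.T1.mk G G _ (actE G) H Δ (fun g hg B hB => ?_) fun B hB D hD => ?_
  · have := @TwoCount.T1.card G G _ (actE G) H Δ a h1 ((h a).2 ⟨1, one_mem _, by simp⟩)
    rwa [show @stabilizer G G _ (actE G) a = C1 a from Subgroup.ext fun g =>
      Iff.trans mul_inv_eq_iff_eq_mul mem_C1.symm] at this
  · obtain ⟨k, hk, rfl⟩ := (h B).1 hB
    exact (h _).2 ⟨g * k, mul_mem hg hk, show (g * k * a * (g * k)⁻¹ : G) =
      g * (k * a * k⁻¹) * g⁻¹ by group⟩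
  · obtain ⟨k, hk, rfl⟩ := (h B).1 hB
    obtain ⟨l, hl, rfl⟩ := (h D).1 hD
    exact ⟨l * k⁻¹, mul_mem hl (inv_mem hk), show (l * k⁻¹ * (k * a * k⁻¹) * (l * k⁻¹)⁻¹ : G) =
      l * a * l⁻¹ by group⟩

theorem card_le_orbS {H A : Subgroup G} {Δ : Set (Subgroup G)} (h : ∀ g ∈ H, cj(g, A) ∈ Δ) :
    Nat.card H ≤ Δ.ncard * Nat.card (H ⊓ 𝐍[A] : Subgroup G) := by
  rw [card_orbS (Δ := {B | ∃ g ∈ H, cj(g, A) = B}) fun _ => Iff.rfl]
  refine Nat.mul_le_mul_right _ (Set.ncard_le_ncard ?_ (Set.toFinite _))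
  rintro _ ⟨g, hg, rfl⟩
  exact h g hg

theorem card_le_orbE {H : Subgroup G} {a : G} {Δ : Set G} (h : ∀ g ∈ H, g * a * g⁻¹ ∈ Δ) :
    Nat.card H ≤ Δ.ncard * Nat.card (H ⊓ C1 a : Subgroup G) := by
  rw [card_orbE (Δ := {b | ∃ g ∈ H, g * a * g⁻¹ = b}) fun _ => Iff.rfl]
  refine Nat.mul_le_mul_right _ (Set.ncard_le_ncard ?_ (Set.toFinite _))
  rintro _ ⟨g, hg, rfl⟩
  exact h g hg

theorem ncard_ne_one (A : Subgroup G) : ((A : Set G) \ {1}).ncard = Nat.card A - 1 := by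
  rw [Set.ncard_sdiff_singleton_of_mem (one_mem A), ← Nat.card_coe_set_eq]; rfl

omit [Finite G] in
theorem comm_of_sq {A : Subgroup G} (hA : ∀ a ∈ A, a * a = 1) {x y : G} (hx : x ∈ A) (hy : y ∈ A) :
    Commute x y := by
  have h1 := inv_eq_of_mul_eq_one_right (hA _ (mul_mem hx hy))
  rw [mul_inv_rev, inv_eq_of_mul_eq_one_right (hA x hx), inv_eq_of_mul_eq_one_right (hA y hy)] at h1
  exact h1.symm

/-- An involution normalizing an elementary abelian group has a large centralizer. -/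
theorem card_le_sq {A : Subgroup G} {t : G} (hA : ∀ a ∈ A, a * a = 1) (ht : t * t = 1)
    (hn : t ∈ 𝐍[A]) : Nat.card A ≤ Nat.card (A ⊓ C1 t : Subgroup G) ^ 2 :=
  ZD.L45.card_le_sq (fun _ hx _ hy => comm_of_sq hA hx hy) hA ht fun _ hx => conj_mem_of_norm hn hx

theorem pg_zpowers {t : G} (ht : ∃ k, t ^ 2 ^ k = 1) : IsPGroup 2 (zpowers t) := by
  obtain ⟨k, hk⟩ := ht
  refine pg_iff.2 ?_
  rintro _ ⟨n, rfl⟩
  exact ⟨k, by rw [← zpow_natCast, ← zpow_mul, mul_comm, zpow_mul, zpow_natCast, hk, one_zpow]⟩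

/-- A 2-element normalizing a nontrivial elementary abelian group centralizes an involution. -/
theorem exists_comm {A : Subgroup G} {t : G} (hA : IsPGroup 2 A) (h1 : A ≠ ⊥)
    (ht : ∃ k, t ^ 2 ^ k = 1) (hn : t ∈ 𝐍[A]) : ∃ a ∈ A, a ≠ 1 ∧ Commute a t := by
  obtain ⟨a, ha⟩ := ne_bot_iff_exists_ne_one.1
    (GT.PG.inf_centralizer_ne_bot_of_isPGroup hA (pg_zpowers ht) (zpowers_le.2 hn) h1)
  exact ⟨a, a.2.1, fun e => ha (Subtype.ext e), (comm_of_cent a.2.2 (mem_zpowers t)).symm⟩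

/-- Subgroups of the same order of a cyclic group are equal. -/
theorem eq_of_card_eq {H Y Y' : Subgroup G} (hc : IsCyclic H) (h1 : Y ≤ H) (h2 : Y' ≤ H)
    (e : Nat.card Y = Nat.card Y') : Y = Y' := FG.H93.eq_of_card_eq_of_isCyclic h1 h2 e

namespace BN

variable (h : BN N q)
include h

theorem mem_Zc_iff (hS : Syl 2 S N) {x : G} : x ∈ Zc S ↔ x ∈ S ∧ x * x = 1 :=
  and_congr_right fun hx => (h.om hS x hx).symm

theorem two_pow : ∃ m, 2 ≤ m ∧ q = 2 ^ m := by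
  obtain ⟨S, hS⟩ := Syl.exists 2 N
  obtain ⟨m, hm⟩ := IsPGroup.iff_card.1 (hS.pg.to_inf_left (K := 𝐂[S]))
  rw [h.cardZ hS] at hm
  refine ⟨m, ?_, hm⟩
  have := h.four
  by_contra h2
  interval_cases m <;> omega

theorem Zc_ne (hS : Syl 2 S N) : Zc S ≠ ⊥ := fun e => by
  have := h.cardZ hS
  have := h.four
  rw [e, card_bot] at *
  omega

theorem exists_mem (hS : Syl 2 S N) : ∃ z ∈ Zc S, z ≠ 1 := by
  obtain ⟨a, ha⟩ := ne_bot_iff_exists_ne_one.1 (h.Zc_ne hS)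
  exact ⟨a, a.2, fun e => ha (Subtype.ext e)⟩

theorem ne_bot : N ≠ ⊥ := fun e => by
  obtain ⟨S, hS⟩ := Syl.exists 2 N
  exact h.Zc_ne hS (eq_bot_iff.2 ((inf_le_left.trans hS.le).trans e.le))

/-- A nonidentity element of `S` has a power that is an involution. -/
theorem exists_pow (hS : Syl 2 S N) {s : G} (hs : s ∈ S) (h1 : s ≠ 1) :
    ∃ z ∈ Zc S, z ≠ 1 ∧ (z = s ∨ z = s * s) := by
  by_cases e : s * s = 1
  · exact ⟨s, (h.mem_Zc_iff hS).2 ⟨hs, e⟩, h1, Or.inl rfl⟩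
  · exact ⟨s * s, ⟨mul_mem hs hs, h.sq hS s hs⟩, e, Or.inr rfl⟩

theorem Zc_eq (hS : Syl 2 S N) (e : Nat.card S = q) : Zc S = S :=
  eq_of_le_of_card_ge inf_le_left (by rw [e, h.cardZ hS])

theorem card_of_comm (hS : Syl 2 S N) (hc : S ≤ 𝐂[S]) : Nat.card S = q := by
  rw [← h.cardZ hS, Zc, inf_eq_left.2 hc]

theorem comm_mem (hS : Syl 2 S N) {x y : G} (hx : x ∈ S) (hy : y ∈ S) :
    x * y * x⁻¹ * y⁻¹ ∈ Zc S := by
  refine mem_Zc.2 ⟨mul_mem (mul_mem (mul_mem hx hy) (inv_mem hx)) (inv_mem hy), ?_⟩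
  have h1 := (comm_of_cent (inv_mem (h.sq hS x hx)) (inv_mem hy)).eq
  have : x * y * x⁻¹ * y⁻¹ = x * y * (x * y) * (x * x)⁻¹ * (y * y)⁻¹ := by
    calc _ = x * y * (x * y) * (y⁻¹ * (x * x)⁻¹) * y⁻¹ := by group
      _ = _ := by rw [h1]; group
  rw [this]
  exact mul_mem (mul_mem (h.sq hS _ (mul_mem hx hy)) (inv_mem (h.sq hS x hx)))
    (inv_mem (h.sq hS y hy))

omit h in
theorem mem_of_norm' (hS : Syl 2 S N) {x : G} (hx : x ∈ N) (hn : x ∈ 𝐍[S])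
    (h2 : ∃ k, x ^ 2 ^ k = 1) : x ∈ S :=
  hS.le_of_norm' (pg_zpowers h2) (zpowers_le.2 hx) (zpowers_le.2 hn) (mem_zpowers x)

theorem mem_of_norm (hS : Syl 2 S N) {x : G} (hx : x ∈ N) (hn : x ∈ 𝐍[S])
    (h2 : ∃ k, x ^ 2 ^ k = 1) : x ∈ S := have _ := h; mem_of_norm' hS hx hn h2

theorem norm_of_conj (hS : Syl 2 S N) {g x : G} (hg : g ∈ 𝐍[N]) (hx : x ∈ S) (h1 : x ≠ 1)
    (hc : g * x * g⁻¹ ∈ S) : g ∈ 𝐍[S] :=
  cj_eq_iff.1 (h.ti (hS.cj_norm hg) hS _ (conj_mem_cj hx) hc (by simpa using h1))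

theorem eq_one (hS : Syl 2 S N) (hR : Syl 2 R N) (hne : R ≠ S) {s : G} (hs : s ∈ S)
    (hn : s ∈ 𝐍[R]) : s = 1 := by_contra fun e =>
  hne (h.ti hR hS s (h.mem_of_norm hR (hS.le hs) hn (pg_iff.1 hS.pg s hs)) hs e)

theorem exists_syl {x : G} (hx : x ∈ N) (h2 : ∃ k, x ^ 2 ^ k = 1) : ∃ S, Syl 2 S N ∧ x ∈ S :=
  have _ := h
  let ⟨S, h1, hS⟩ := Syl.exists_ge (pg_zpowers h2) (zpowers_le.2 hx)
  ⟨S, hS, h1 (mem_zpowers x)⟩

omit h in
theorem cj_ne (hne : R ≠ S) {g : G} (hg : g ∈ 𝐍[S]) : cj(g, R) ≠ S := fun e =>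
  hne (cj_eq_cj.1 (e.trans (cj_of_norm hg).symm))

/-- `N_G(N) ∩ N_G(S) = S (N_G(N) ∩ N_G(S) ∩ N_G(R))`. -/
theorem dec (hS : Syl 2 S N) (hR : Syl 2 R N) (hne : R ≠ S) {g : G} (hN : g ∈ 𝐍[N])
    (hg : g ∈ 𝐍[S]) : ∃ s ∈ S, ∃ d ∈ 𝐍[R], g = s * d := by
  obtain ⟨s, hs, e⟩ := h.reg hS hR (hR.cj_norm hN) hne (cj_ne hne hg)
  refine ⟨s, hs, s⁻¹ * g, cj_eq_iff.1 ?_, by simp⟩
  rw [← cj_cj, ← e, cj_inv_cj]

theorem decH (hS : Syl 2 S N) (hR : Syl 2 R N) (hne : R ≠ S) {g : G} (hN : g ∈ N)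
    (hg : g ∈ 𝐍[S]) : ∃ s ∈ S, ∃ d ∈ Hs N S R, g = s * d := by
  obtain ⟨s, hs, d, hd, rfl⟩ := h.dec hS hR hne (le_normalizer hN) hg
  exact ⟨s, hs, d, ⟨(N.mul_mem_cancel_left (hS.le hs)).1 hN,
    (Subgroup.mul_mem_cancel_left _ (le_normalizer hs)).1 hg, hd⟩, rfl⟩

theorem ncard_other (hS : Syl 2 S N) :
    ({R : Subgroup G | Syl 2 R N} \ {S}).ncard = Nat.card S := by
  obtain ⟨R, hR, hne⟩ := h.two hS
  have := card_orbS (H := S) (A := R) (Δ := {R : Subgroup G | Syl 2 R N} \ {S}) fun B =>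
    ⟨fun hB => h.reg hS hR hB.1 hne hB.2, by
      rintro ⟨g, hg, rfl⟩
      exact ⟨hR.cj_mem (hS.le hg), cj_ne hne (le_normalizer hg)⟩⟩
  rw [this, show S ⊓ 𝐍[R] = ⊥ from eq_bot_iff.2 fun s hs => h.eq_one hS hR hne hs.1 hs.2,
    card_bot, mul_one]

theorem ncard_syl (hS : Syl 2 S N) :
    {R : Subgroup G | Syl 2 R N}.ncard = Nat.card S + 1 := by
  rw [← h.ncard_other hS, Set.ncard_sdiff_singleton_add_one (by exact hS)]

theorem odd_H (hS : Syl 2 S N) (hR : Syl 2 R N) (hne : R ≠ S) : Odd (Nat.card (Hs N S R)) :=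
  Nat.coprime_two_right.1 (coprime_of_forall_pg fun _ hP h2 => eq_bot_iff.2 fun x hx =>
    h.eq_one hS hR hne (h.mem_of_norm hS (hP hx).1 (hP hx).2.1 (pg_iff.1 h2 x hx)) (hP hx).2.2)

theorem H_comm (hS : Syl 2 S N) (hR : Syl 2 R N) (hne : R ≠ S) {x y : G} (hx : x ∈ Hs N S R)
    (hy : y ∈ Hs N S R) : Commute x y := by
  have := h.cyc hS hR hne
  exact congrArg Subtype.val (mul_comm' (⟨x, hx⟩ : Hs N S R) ⟨y, hy⟩)

theorem card_eq (hS : Syl 2 S N) (hR : Syl 2 R N) (hne : R ≠ S) :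
    Nat.card N = (Nat.card S + 1) * Nat.card S * Nat.card (Hs N S R) := by
  have h1 := card_orbS (H := N) (A := S) (Δ := {R : Subgroup G | Syl 2 R N}) fun B =>
    ⟨fun hB => hS.conj_eq hB, by rintro ⟨g, hg, rfl⟩; exact hS.cj_mem hg⟩
  have h2 := card_orbS (H := N ⊓ 𝐍[S]) (A := R) (Δ := {R : Subgroup G | Syl 2 R N} \ {S}) fun B =>
    ⟨fun hB => let ⟨s, hs, e⟩ := h.reg hS hR hB.1 hne hB.2; ⟨s, ⟨hS.le hs, le_normalizer hs⟩, e⟩, by
      rintro ⟨g, hg, rfl⟩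
      exact ⟨hR.cj_mem hg.1, cj_ne hne hg.2⟩⟩
  rw [h1, h2, h.ncard_syl hS, h.ncard_other hS, inf_assoc, mul_assoc]

/-- An element of `H` centralizing one involution of `S` centralizes them all. -/
theorem h0 (hS : Syl 2 S N) (hR : Syl 2 R N) (hne : R ≠ S) {y z : G} (hy : y ∈ Hs N S R)
    (hz : z ∈ Zc S) (h1 : z ≠ 1) (hc : Commute y z) : y ∈ 𝐂[Zc S] := by
  refine mem_cent.2 fun a ha => ?_
  by_cases e : a = 1
  · simp [e]
  obtain ⟨k, hk, rfl⟩ := h.trans hS hR hne z hz a ha h1 e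
  have := h.H_comm hS hR hne hy hk
  exact ((this.mul_right hc).mul_right this.inv_right).eq.symm

theorem card_H (hS : Syl 2 S N) (hR : Syl 2 R N) (hne : R ≠ S) :
    Nat.card (Hs N S R) = (q - 1) * Nat.card (Hs N S R ⊓ 𝐂[Zc S] : Subgroup G) := by
  obtain ⟨z, hz, h1⟩ := h.exists_mem hS
  rw [card_orbE (H := Hs N S R) (a := z) (Δ := (Zc S : Set G) \ {1}) fun b =>
    ⟨fun hb => h.trans hS hR hne z hz b hb.1 h1 hb.2, by
      rintro ⟨g, hg, rfl⟩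
      exact ⟨conj_mem_of_norm (norm_Zc hg.2.1) hz, by simpa using h1⟩⟩, ncard_ne_one, h.cardZ hS]
  rw [show Hs N S R ⊓ C1 z = Hs N S R ⊓ 𝐂[Zc S] from
    Subgroup.ext fun y => and_congr_right fun hy => ⟨fun e => h.h0 hS hR hne hy hz h1
      (mem_C1.1 e), fun e => mem_C1.2 (comm_of_cent e hz).symm⟩]

/-- An element of `H` normalizing a third Sylow subgroup centralizes the involutions of `S`. -/
theorem three (hS : Syl 2 S N) (hR : Syl 2 R N) (hne : R ≠ S) {R' : Subgroup G}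
    (hR' : Syl 2 R' N) (h1 : R' ≠ S) (h2 : R' ≠ R) {y : G} (hy : y ∈ Hs N S R)
    (hn : y ∈ 𝐍[R']) : y ∈ 𝐂[Zc S] := by
  obtain ⟨s, hs, rfl⟩ := h.reg hS hR hR' hne h1
  have s1 : s ≠ 1 := fun e => h2 (by rw [e, cj_one])
  have e : s⁻¹ * (y * s * y⁻¹) = 1 := by
    refine h.eq_one hS hR hne (mul_mem (inv_mem hs) (conj_mem_of_norm hy.2.1 hs))
      (mul_assoc s⁻¹ _ _ ▸ mul_mem ?_ (inv_mem hy.2.2))
    rw [← cj_eq_iff, ← cj_cj, ← cj_cj, cj_of_norm hn, cj_inv_cj]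
  rw [inv_mul_eq_one, eq_mul_inv_iff_mul_eq] at e
  obtain ⟨z, hz, z1, rfl | rfl⟩ := h.exists_pow hS hs s1
  · exact h.h0 hS hR hne hy hz z1 e.symm
  · exact h.h0 hS hR hne hy hz z1 (Commute.mul_right e.symm e.symm)

theorem not_le_norm (hS : Syl 2 S N) : ¬ N ≤ 𝐍[S] := fun e => by
  obtain ⟨R, hR, hne⟩ := h.two hS
  obtain ⟨g, hg, rfl⟩ := hS.conj_eq hR
  exact hne (cj_of_norm (e hg))

theorem syl_ne_bot (hS : Syl 2 S N) : S ≠ ⊥ := fun e =>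
  h.Zc_ne hS (eq_bot_iff.2 (inf_le_left.trans e.le))

/-- A proper subgroup containing `S` normalizes `S`. -/
theorem le_norm_of_ne (hS : Syl 2 S N) {M : Subgroup G} (h1 : S ≤ M) (h2 : M ≤ N) (h3 : M ≠ N) :
    M ≤ 𝐍[S] := fun m hm => by_contra fun hn => by
  have hR := hS.cj_mem (h2 hm)
  have hne : cj(m, S) ≠ S := fun e => hn (cj_eq_iff.1 e)
  have key : ∀ R, Syl 2 R N → R ≤ M := fun R hR' => by
    by_cases e : R = S
    · exact e ▸ h1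
    obtain ⟨s, hs, rfl⟩ := h.reg hS hR hR' hne e
    exact cj_le_of_mem (cj_le_of_mem h1 hm) (h1 hs)
  let J : Subgroup G := ⨆ R : {R : Subgroup G // Syl 2 R N}, R.1
  have hJ : J ≤ M := iSup_le fun R => key R.1 R.2
  have hSJ : ∀ R, Syl 2 R N → R ≤ J := fun R hR =>
    le_iSup (fun R : {R : Subgroup G // Syl 2 R N} => R.1) ⟨R, hR⟩
  rcases h.simple J (hJ.trans h2) (norm_of_forall_cj_le fun g hg => by
    rw [Subgroup.map_iSup]
    exact iSup_le fun R => hSJ _ (R.2.cj_mem hg)) with e | e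
  · exact h.syl_ne_bot hS (eq_bot_iff.2 (e ▸ hSJ S hS))
  · exact h3 (le_antisymm h2 (e ▸ hJ))

theorem not_le_cent : ¬ N ≤ 𝐂[N] := fun e => by
  obtain ⟨S, hS⟩ := Syl.exists 2 N
  exact h.not_le_norm hS (norm_of_cent (e.trans (cent_anti hS.le)))

theorem not_solvable : ¬ Group.IsSolvable N := fun hs => by
  have := (nontrivial_iff_ne_bot N).2 h.ne_bot
  have h1 := Group.IsSolvable.commutator_lt_top_of_nontrivial N
  rcases h.simple ⁅N, N⁆ (comm_le_left le_normalizer) (norm_comm le_normalizer le_normalizer)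
    with e | e
  · exact h.not_le_cent (comm_eq_bot_iff.1 e)
  · refine h1.ne (map_injective N.subtype_injective ?_)
    rw [map_subtype_commutator, e, ← MonoidHom.range_eq_map, range_subtype]

theorem inf_cent : N ⊓ 𝐂[N] = ⊥ :=
  (h.simple _ inf_le_left (norm_inf le_normalizer (norm_cent le_normalizer))).resolve_right
    fun e => h.not_le_cent (e.ge.trans inf_le_right)

theorem c0 {e : G} (hN : e ∈ 𝐍[N]) (he : ∀ R, Syl 2 R N → e ∈ 𝐍[R]) : e ∈ 𝐂[N] := by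
  obtain ⟨S, hS⟩ := Syl.exists 2 N
  let D : Subgroup G := ⨅ R : {R : Subgroup G // Syl 2 R N}, 𝐍[R.1]
  have hD : ∀ x, x ∈ D ↔ ∀ R, Syl 2 R N → x ∈ 𝐍[R] := fun x => by simp [D, mem_iInf]
  have hn : ∀ g ∈ N, ∀ x ∈ D, g * x * g⁻¹ ∈ D := fun g hg x hx => (hD _).2 fun R hR => by
    have := conj_mem_cj (g := g) ((hD x).1 hx _ (hR.cj_mem (inv_mem hg)))
    rwa [cj_norm, cj_cj_inv] at this
  have h1 : N ⊓ D = ⊥ := (h.simple _ inf_le_left (norm_inf le_normalizer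
    (le_normalizer_iff.2 fun g hg x hx => hn g hg x hx))).resolve_right fun e =>
      h.not_le_norm hS fun x hx => (hD x).1 (e.ge hx).2 S hS
  refine mem_cent.2 fun n hn' => ?_
  have : n * e * n⁻¹ * e⁻¹ ∈ N ⊓ D := mem_inf.2 ⟨by
    simpa [mul_assoc] using mul_mem hn' (conj_mem_of_norm hN (inv_mem hn')),
    mul_mem (hn n hn' e ((hD e).2 he)) (inv_mem ((hD e).2 he))⟩
  rwa [h1, mem_bot, mul_inv_eq_one, mul_inv_eq_iff_eq_mul] at this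

theorem c1 (hS : Syl 2 S N) (hR : Syl 2 R N) (hne : R ≠ S) {e : G} (hN : e ∈ 𝐍[N])
    (h1 : e ∈ 𝐍[R]) (h2 : e ∈ 𝐂[S]) : e ∈ 𝐂[N] := by
  refine h.c0 hN fun R' hR' => ?_
  by_cases e' : R' = S
  · exact e' ▸ cent_le_norm S h2
  obtain ⟨s, hs, rfl⟩ := h.reg hS hR hR' hne e'
  rw [← cj_eq_iff, cj_cj, ← (comm_of_cent h2 hs).eq, ← cj_cj, cj_of_norm h1]

theorem H_eq_one (hS : Syl 2 S N) (hR : Syl 2 R N) (hne : R ≠ S) {y : G} (hy : y ∈ Hs N S R)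
    (h2 : y ∈ 𝐂[Zc S]) (h3 : ∀ s ∈ S, y * s * y⁻¹ * s⁻¹ ∈ 𝐂[S]) : y = 1 := by_contra fun e => by
  have h4 : y ∈ 𝐂[S] := cent_anti (le_inf le_rfl fun s hs => h.fpf hS hR hne y hy e s hs (h3 s hs)) h2
  exact e (h.inf_cent.le ⟨hy.1, h.c1 hS hR hne (le_normalizer hy.1) hy.2.2 h4⟩)

theorem c2 (hS : Syl 2 S N) (hR : Syl 2 R N) (hne : R ≠ S) {e : G} (hN : e ∈ 𝐍[N])
    (h0 : e ∈ 𝐍[S]) (h1 : e ∈ 𝐍[R]) (h2 : e ∈ 𝐂[Zc S])
    (h3 : ∀ s ∈ S, e * s * e⁻¹ * s⁻¹ ∈ 𝐂[S]) : e ∈ 𝐂[N] := by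
  have hZ : ∀ s ∈ S, e * s * e⁻¹ * s⁻¹ ∈ Zc S := fun s hs =>
    mem_Zc.2 ⟨mul_mem (conj_mem_of_norm h0 hs) (inv_mem hs), h3 s hs⟩
  have hH : ∀ k ∈ Hs N S R, Commute k e := fun k hk => by
    obtain ⟨k0, k1, k2⟩ := mem_Hs.1 hk
    have := h.H_eq_one hS hR hne (y := k⁻¹ * (e * k * e⁻¹)) (mem_Hs.2 ⟨mul_mem (inv_mem k0)
      (conj_mem_of_norm hN k0), mul_mem (inv_mem k1) (mul_mem (mul_mem h0 k1)
        (inv_mem h0)), mul_mem (inv_mem k2) (mul_mem (mul_mem h1 k2) (inv_mem h1))⟩)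
      (by simpa [mul_assoc] using mul_mem (conj_mem_of_norm' (norm_cent le_rfl (norm_Zc k1)) h2)
            (inv_mem h2)) fun s hs => ?_
    · rw [inv_mul_eq_one, eq_mul_inv_iff_mul_eq] at this
      exact this
    have hs' := conj_mem_of_norm' h0 hs
    have a1 := conj_mem_of_norm' (norm_cent le_rfl hk.2.1) (h3 _ (conj_mem_of_norm hk.2.1 hs'))
    have a2 := h3 _ hs'
    have a3 := (comm_of_cent a2 hs').eq
    have : k⁻¹ * (e * k * e⁻¹) * s * (k⁻¹ * (e * k * e⁻¹))⁻¹ * s⁻¹ =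
      k⁻¹ * (e * (k * (e⁻¹ * s * e) * k⁻¹) * e⁻¹ * (k * (e⁻¹ * s * e) * k⁻¹)⁻¹) * k *
        (e * (e⁻¹ * s * e) * e⁻¹ * (e⁻¹ * s * e)⁻¹)⁻¹ := by group
    exact this ▸ mul_mem a1 (inv_mem a2)
  refine h.c1 hS hR hne hN h1 (mem_cent.2 fun s hs => ?_)
  have := h.hom hS hR hne (fun s => e * s * e⁻¹ * s⁻¹) hZ (fun x hx y hy => ?_) (fun x hx => ?_)
    (fun k hk x hx => ?_) s hs
  · rw [mul_inv_eq_one, mul_inv_eq_iff_eq_mul] at this
    exact this.symm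
  · calc _ = e * x * e⁻¹ * ((e * y * e⁻¹ * y⁻¹) * x⁻¹) := by group
      _ = _ := by rw [← (comm_of_cent (h3 y hy) (inv_mem hx)).eq]; group
  · simp only [← (comm_of_cent h2 hx).eq]; group
  · calc _ = (e * k) * x * (e * k)⁻¹ * (k * x * k⁻¹)⁻¹ := by group
      _ = _ := by rw [← (hH k hk).eq]; group

theorem comm_mem' (hS : Syl 2 S N) (hR : Syl 2 R N) (hne : R ≠ S) (hc : Nat.card S ≠ q ^ 3) {e : G}
    (h0 : e ∈ 𝐍[S]) (h2 : e ∈ 𝐂[Zc S]) {s : G} (hs : s ∈ S) : e * s * e⁻¹ * s⁻¹ ∈ 𝐂[S] := by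
  rcases h.cases hS hR hne with e1 | ⟨-, -, e1⟩ | ⟨e1, -⟩
  · rw [h.Zc_eq hS e1] at h2
    rw [← (comm_of_cent h2 hs).eq]
    simp
  · have := e1 _ (conj_mem_of_norm h0 (inv_mem hs)) _ (inv_mem hs) (by
      calc _ = e * (s⁻¹ * s⁻¹) * e⁻¹ := by group
        _ = _ := by rw [← (comm_of_cent h2 (mem_Zc.2 ⟨mul_mem (inv_mem hs) (inv_mem hs),
          h.sq hS _ (inv_mem hs)⟩)).eq]; group)
    simpa [mul_assoc] using this
  · exact absurd e1 hc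

theorem c3 (hS : Syl 2 S N) (hR : Syl 2 R N) (hne : R ≠ S) (hc : Nat.card S ≠ q ^ 3) {e : G}
    (hN : e ∈ 𝐍[N]) (h0 : e ∈ 𝐍[S]) (h1 : e ∈ 𝐍[R]) (h2 : e ∈ 𝐂[Zc S]) : e ∈ 𝐂[N] :=
  h.c2 hS hR hne hN h0 h1 h2 fun _ hs => h.comm_mem' hS hR hne hc h0 h2 hs

/-- The unitary case: `H₀ = C_H(Z(S))` has order `q + 1` or `(q + 1) / 3`. -/
theorem card_H0 (hS : Syl 2 S N) (hR : Syl 2 R N) (hne : R ≠ S) (hc : Nat.card S = q ^ 3) :
    Nat.card (Hs N S R ⊓ 𝐂[Zc S] : Subgroup G) = q + 1 ∨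
      3 * Nat.card (Hs N S R ⊓ 𝐂[Zc S] : Subgroup G) = q + 1 := by
  have h4 := h.four
  have h1 := h.card_H hS hR hne
  obtain ⟨p, rfl⟩ : ∃ p, q = p + 1 := ⟨q - 1, by omega⟩
  rw [Nat.add_sub_cancel] at h1
  rcases h.cases hS hR hne with e1 | ⟨e1, -⟩ | ⟨-, e1 | e1⟩
  · rw [hc] at e1; nlinarith [Nat.zero_le (p ^ 3), Nat.zero_le (p ^ 2)]
  · rw [hc] at e1; nlinarith [Nat.zero_le (p ^ 3), Nat.zero_le (p ^ 2)]
  · exact Or.inl (Nat.eq_of_mul_eq_mul_left (show 0 < p by omega) (by nlinarith))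
  · exact Or.inr (Nat.eq_of_mul_eq_mul_left (show 0 < p by omega) (by nlinarith))

theorem H0_eq_bot (hS : Syl 2 S N) (hR : Syl 2 R N) (hne : R ≠ S) (hc : Nat.card S ≠ q ^ 3) :
    Hs N S R ⊓ 𝐂[Zc S] = ⊥ := eq_bot_iff.2 fun _ hy =>
  h.inf_cent.le ⟨hy.1.1, h.c3 hS hR hne hc (le_normalizer hy.1.1) hy.1.2.1 hy.1.2.2 hy.2⟩

/-- Involutions in different Sylow subgroups are interchanged by an involution of the dihedral
group they generate. -/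
theorem swap (hS : Syl 2 S N) (hR : Syl 2 R N) (hne : R ≠ S) {z z' : G} (hz : z ∈ Zc S)
    (hz' : z' ∈ Zc R) (h1 : z ≠ 1) (h1' : z' ≠ 1) : Odd (orderOf (z * z')) ∧
      ∃ w ∈ closure ({z, z'} : Set G), w * w = 1 ∧ w * z * w = z' ∧ cj(w, S) = R ∧ cj(w, R) = S := by
  have e := ((h.mem_Zc_iff hS).1 hz).2
  have e' := ((h.mem_Zc_iff hR).1 hz').2
  have i := inv_eq_of_mul_eq_one_right e
  have i' := inv_eq_of_mul_eq_one_right e'
  have hN : z * z' ∈ N := mul_mem (hS.le hz.1) (hR.le hz'.1)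
  have key : ∀ j : ℕ, z * (z * z') ^ j * z = ((z * z') ^ j)⁻¹ := fun j => by
    rw [← inv_pow, mul_inv_rev, i, i']
    calc _ = z * (z * z') ^ j * z⁻¹ := by rw [i]
      _ = _ := by rw [← conj_pow, i, ← mul_assoc, e, one_mul]
  have ho : Odd (orderOf (z * z')) := by
    refine Nat.not_even_iff_odd.1 fun ⟨j, hj⟩ => ?_
    have c2 : (z * z') ^ j * (z * z') ^ j = 1 := by rw [← pow_add, ← hj, pow_orderOf_eq_one]
    have c1 : (z * z') ^ j ≠ 1 := fun e => by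
      have := Nat.le_of_dvd (by have := orderOf_pos (z * z'); omega) (orderOf_dvd_of_pow_eq_one e)
      have := orderOf_pos (z * z')
      omega
    have c3 : Commute ((z * z') ^ j) z := by
      have := key j
      rw [inv_eq_of_mul_eq_one_right c2] at this
      calc _ = z * (z * z') ^ j * z * z := by rw [this]
        _ = _ := by rw [mul_assoc, e, mul_one]
    have c4 : Commute ((z * z') ^ j) z' := by
      have := c3.mul_right (Commute.self_pow (z * z') j).symm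
      rwa [← mul_assoc, e, one_mul] at this
    have m : ∀ {S : Subgroup G} {y : G}, Syl 2 S N → y ∈ S → y ≠ 1 → Commute ((z * z') ^ j) y →
        (z * z') ^ j ∈ S := fun hS hy y1 c => h.mem_of_norm hS (pow_mem hN j)
      (h.norm_of_conj hS (le_normalizer (pow_mem hN j)) hy y1 (by rw [c.eq]; simpa using hy))
      ⟨1, by rw [pow_one, pow_two, c2]⟩
    exact hne (h.ti hR hS _ (m hR hz'.1 h1' c4) (m hS hz.1 h1 c3) c1)
  obtain ⟨j, hj⟩ := id ho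
  have hz1 : z ∈ closure ({z, z'} : Set G) := subset_closure (by simp)
  have hz2 : z' ∈ closure ({z, z'} : Set G) := subset_closure (by simp)
  have w2 : z * (z * z') ^ (j + 1) * (z * (z * z') ^ (j + 1)) = 1 := by
    rw [← mul_assoc, key, inv_mul_cancel]
  have wz : z * (z * z') ^ (j + 1) * z * (z * (z * z') ^ (j + 1)) = z' := by
    calc _ = z * ((z * z') ^ (j + 1) * (z * z) * (z * z') ^ (j + 1)) := by group
      _ = z * ((z * z') ^ (2 * j + 1) * (z * z')) := by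
        rw [e, mul_one, ← pow_add, ← pow_succ]; congr 2; ring
      _ = _ := by rw [← hj, pow_orderOf_eq_one, one_mul, ← mul_assoc, e, one_mul]
  have hw : z * (z * z') ^ (j + 1) ∈ N := mul_mem (hS.le hz.1) (pow_mem hN _)
  have c : cj(z * (z * z') ^ (j + 1), S) = R := h.ti (hS.cj_mem hw) hR z' (by
    have := conj_mem_cj (g := z * (z * z') ^ (j + 1)) hz.1
    rwa [inv_eq_of_mul_eq_one_right w2, wz] at this) hz'.1 h1'
  exact ⟨ho, _, mul_mem hz1 (pow_mem (mul_mem hz1 hz2) _), w2, wz, c, by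
    rw [← c, cj_cj, w2, cj_one]⟩

theorem conj_inv {z z' : G} (hz : z ∈ N) (hz' : z' ∈ N) (h2 : z * z = 1) (h2' : z' * z' = 1)
    (h1 : z ≠ 1) (h1' : z' ≠ 1) : ∃ n ∈ N, n * z * n⁻¹ = z' := by
  obtain ⟨S, hS, hzS⟩ := h.exists_syl hz ⟨1, by rw [pow_one, pow_two, h2]⟩
  obtain ⟨S', hS', hzS'⟩ := h.exists_syl hz' ⟨1, by rw [pow_one, pow_two, h2']⟩
  obtain ⟨g, hg, rfl⟩ := hS.conj_eq hS'
  obtain ⟨R, hR, hne⟩ := h.two hS'
  obtain ⟨k, hk, e⟩ := h.trans hS' hR hne (g * z * g⁻¹) (cj_Zc g S ▸ conj_mem_cj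
    ((h.mem_Zc_iff hS).2 ⟨hzS, h2⟩)) z' ((h.mem_Zc_iff hS').2 ⟨hzS', h2'⟩) (by simpa using h1) h1'
  exact ⟨k * g, mul_mem hk.1 hg, by rw [← e]; group⟩

theorem ncard_inv (hS : Syl 2 S N) :
    {z : G | z ∈ N ∧ z * z = 1 ∧ z ≠ 1}.ncard = (Nat.card S + 1) * (q - 1) := by
  rw [← h.ncard_syl hS, ← mul_one (Set.ncard {z : G | _})]
  refine TwoCount.dcount (Set.toFinite _) (Set.toFinite _) (fun z R => z ∈ R) (fun z hz => ?_)
    fun R hR => ?_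
  · obtain ⟨R, hR, hzR⟩ := h.exists_syl hz.1 ⟨1, by rw [pow_one, pow_two, hz.2.1]⟩
    exact Set.ncard_eq_one.2 ⟨R, Set.eq_singleton_iff_unique_mem.2 ⟨⟨hR, hzR⟩,
      fun R' hR' => h.ti hR'.1 hR z hR'.2 hzR hz.2.2⟩⟩
  · rw [← h.cardZ hR, ← ncard_ne_one]
    congr 1
    ext z
    exact ⟨fun hz => ⟨(h.mem_Zc_iff hR).2 ⟨hz.2, hz.1.2.1⟩, hz.1.2.2⟩, fun hz =>
      ⟨⟨hR.le hz.1.1, ((h.mem_Zc_iff hR).1 hz.1).2, hz.2⟩, hz.1.1⟩⟩

theorem exists_syl_norm {Y : Subgroup G} (hY : IsPGroup 2 Y) (hn : Y ≤ 𝐍[N]) :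
    ∃ S, Syl 2 S N ∧ Y ≤ 𝐍[S] := by
  have _ := h
  obtain ⟨T, h1, hT⟩ := Syl.exists_ge hY (le_sup_right : Y ≤ N ⊔ Y)
  exact ⟨T ⊓ N, hT.inf le_sup_left (hT.le.trans (sup_le le_normalizer hn)),
    norm_inf (norm_of_le h1) hn⟩

theorem ne_cube (hc : Nat.card S = q) : Nat.card S ≠ q ^ 3 := by
  have := h.four
  rw [hc]
  nlinarith [Nat.pow_le_pow_left this 2, show q ^ 3 = q ^ 2 * q by ring]

/-- The linear case: involution centralizers in `N` are the Sylow subgroups. -/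
theorem cent_le (hS : Syl 2 S N) (hc : Nat.card S = q) {z x : G} (hz : z ∈ S) (h1 : z ≠ 1)
    (hx : x ∈ N) (e : Commute x z) : x ∈ S := by
  obtain ⟨R, hR, hne⟩ := h.two hS
  obtain ⟨s, hs, d, hd, rfl⟩ := h.decH hS hR hne hx
    (h.norm_of_conj hS (le_normalizer hx) hz h1 (by rw [e.eq]; simpa using hz))
  have hz' : z ∈ Zc S := (h.Zc_eq hS hc).ge hz
  have : d ∈ Hs N S R ⊓ 𝐂[Zc S] := ⟨hd, h.h0 hS hR hne hd hz' h1 (by
    simpa using (comm_of_cent hz'.2 (inv_mem hs)).mul_left e)⟩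
  rw [h.H0_eq_bot hS hR hne (h.ne_cube hc), mem_bot] at this
  simpa [this] using hs

/-- The linear case: a bound for the automorphism group. -/
theorem relIndex_le (hS : Syl 2 S N) (hc : Nat.card S = q) {M : Subgroup G} (hM : M ≤ 𝐍[N]) :
    (𝐂[N]).relIndex M ≤ (q + 1) * q * (q - 1) * (q - 2) := by
  obtain ⟨R, hR, hne⟩ := h.two hS
  obtain ⟨z, hz, z1⟩ := h.exists_mem hS
  have := h.cyc hS hR hne
  obtain ⟨⟨k, hk⟩, hg⟩ := IsCyclic.exists_zpow_surjective (G := Hs N S R)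
  have cH : Nat.card (Hs N S R) = q - 1 := by
    rw [h.card_H hS hR hne, h.H0_eq_bot hS hR hne (h.ne_cube hc), card_bot, mul_one]
  have k1 : k ≠ 1 := fun e => by
    have : Hs N S R = ⊥ := eq_bot_iff.2 fun x hx => by
      obtain ⟨n, hn⟩ := hg ⟨x, hx⟩
      simpa [e, eq_comm] using congrArg Subtype.val hn
    have h4 := h.four
    rw [this, card_bot] at cH
    omega
  have a1 := card_le_orbS (H := M) (A := S) (Δ := {R : Subgroup G | Syl 2 R N})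
    fun g hg => hS.cj_norm (hM hg)
  have a2 := card_le_orbS (H := M ⊓ 𝐍[S]) (A := R) (Δ := {R : Subgroup G | Syl 2 R N} \ {S})
    fun g hg => ⟨hR.cj_norm (hM hg.1), cj_ne hne hg.2⟩
  have a3 := card_le_orbE (H := M ⊓ 𝐍[S] ⊓ 𝐍[R]) (a := z) (Δ := (Zc S : Set G) \ {1})
    fun g hg => ⟨conj_mem_of_norm (norm_Zc hg.1.2) hz, by simpa using z1⟩
  have a4 := card_le_orbE (H := M ⊓ 𝐍[S] ⊓ 𝐍[R] ⊓ C1 z) (a := k) (Δ := (Hs N S R : Set G) \ {1})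
    fun g hg => ⟨mem_Hs.2 ⟨conj_mem_of_norm (hM hg.1.1.1) hk.1,
      mul_mem (mul_mem hg.1.1.2 hk.2.1) (Subgroup.inv_mem _ hg.1.1.2),
      mul_mem (mul_mem hg.1.2 hk.2.2) (Subgroup.inv_mem _ hg.1.2)⟩, by simpa using k1⟩
  have a5 : Nat.card (M ⊓ 𝐍[S] ⊓ 𝐍[R] ⊓ C1 z ⊓ C1 k : Subgroup G) ≤
      Nat.card (𝐂[N] ⊓ M : Subgroup G) := by
    refine card_le_of_le fun e he => ⟨h.c1 hS hR hne (hM he.1.1.1.1) he.1.1.2 (mem_cent.2
      fun s hs => ?_), he.1.1.1.1⟩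
    by_cases s1 : s = 1
    · simp [s1]
    obtain ⟨y, hy, rfl⟩ := h.trans hS hR hne z hz s ((h.Zc_eq hS hc).ge hs) z1 s1
    obtain ⟨n, hn⟩ := hg ⟨y, hy⟩
    have c : Commute e y := by
      rw [show y = k ^ n from (congrArg Subtype.val hn).symm]
      exact (mem_C1.1 he.2).zpow_right n
    exact ((c.mul_right (mem_C1.1 he.1.2)).mul_right c.inv_right).eq.symm
  rw [h.ncard_syl hS, hc] at a1
  rw [h.ncard_other hS, hc] at a2
  rw [ncard_ne_one, h.cardZ hS] at a3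
  rw [ncard_ne_one, cH, Nat.sub_sub] at a4
  refine Nat.le_of_mul_le_mul_right ?_ (Nat.card_pos (α := (𝐂[N] ⊓ M : Subgroup G)))
  rw [GT.PG.relIndex_mul_card_inf]
  calc _ ≤ _ := a1
    _ ≤ (q + 1) * (q * ((q - 1) * ((q - 2) * Nat.card (𝐂[N] ⊓ M : Subgroup G)))) := by
      gcongr
      refine a2.trans ?_
      gcongr
      refine a3.trans ?_
      gcongr
      refine a4.trans ?_
      gcongr
    _ = _ := by ring

end BN

end Cfsg.Agent.HI
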