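import Mathlib
import Cfsg.Agent.HI.Api

/-! Involutions outside `S C(N)`: counting lemmas and the case of an involution normalizing two Sylow subgroups. -/

set_option autoImplicit false
set_option linter.unusedSectionVars false

namespace Cfsg.Agent.HI.OutA

open Subgroup MulAction Cfsg.Agent.TT Cfsg.Agent.Perm Cfsg.Agent.Perm.TT Cfsg.Agent.Loc.Mss
open Cfsg.Agent.OT

universe u v

variable {G : Type u} [Group G] [Finite G] {N S R : Subgroup G} {q : ℕ}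

theorem cnt {S K : Subgroup G} {X T : Set G} (f : G → G → G) (h1 : ∀ s ∈ S, ∀ x ∈ X, f s x ∈ T)
    (h2 : ∀ s ∈ S, ∀ s' ∈ S, ∀ x ∈ X, ∀ x' ∈ X, f s x = f s' x' → s⁻¹ * s' ∈ K)
    (h3 : ∀ s ∈ S, ∀ x ∈ X, ∀ x' ∈ X, f s x = f s x' → x = x') :
    Nat.card S * X.ncard ≤ Nat.card K * T.ncard := by
  let F : (S ⧸ K.subgroupOf S) × X → T := fun p => ⟨f p.1.out p.2, h1 _ p.1.out.2 _ p.2.2⟩
  have hF : Function.Injective F := by
    rintro ⟨a, x⟩ ⟨b, y⟩ e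
    have e' : f a.out x = f b.out y := congrArg Subtype.val e
    have k : a = b := by
      rw [← a.out_eq', ← b.out_eq', QuotientGroup.eq]
      exact h2 _ a.out.2 _ b.out.2 _ x.2 _ y.2 e'
    subst k
    rw [Subtype.ext (h3 _ a.out.2 _ x.2 _ y.2 e')]
  have k1 := Nat.card_le_card_of_injective F hF
  rw [Nat.card_prod, Nat.card_coe_set_eq, Nat.card_coe_set_eq] at k1
  have k2 : Nat.card (K.subgroupOf S) ≤ Nat.card K :=
    Nat.card_le_card_of_injective (fun a => ⟨a.1, a.2⟩) fun a b e =>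
      Subtype.ext (Subtype.ext (congrArg (fun x : K => (x : G)) e))
  rw [card_eq_card_quotient_mul_card_subgroup (K.subgroupOf S), mul_right_comm, mul_comm (Nat.card K)]
  exact Nat.mul_le_mul k1 k2

theorem cnt1 {S K : Subgroup G} {T : Set G} (c : G → G) (h1 : ∀ s ∈ S, c s ∈ T)
    (h2 : ∀ s ∈ S, ∀ s' ∈ S, c s = c s' → s⁻¹ * s' ∈ K) : Nat.card S ≤ Nat.card K * T.ncard := by
  simpa using cnt (X := {1}) (fun s _ => c s) (fun s hs _ _ => h1 s hs) (fun s hs s' hs' _ _ _ _ => h2 s hs s' hs')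
    fun _ _ x hx x' hx' _ => hx.trans hx'.symm

theorem onto {S K : Subgroup G} {T : Set G} (c : G → G) (h1 : ∀ s ∈ S, c s ∈ T)
    (h2 : ∀ s ∈ S, ∀ s' ∈ S, c s = c s' → s⁻¹ * s' ∈ K) (hc : Nat.card K * T.ncard ≤ Nat.card S) {t : G}
    (ht : t ∈ T) : ∃ s ∈ S, c s = t := by
  by_contra hn
  have k := cnt1 (T := T \ {t}) c (fun s hs => ⟨h1 s hs, fun e => hn ⟨s, hs, e⟩⟩) h2
  have k1 := Set.ncard_sdiff_singleton_lt_of_mem ht
  have := Nat.mul_lt_mul_of_pos_left k1 (Nat.card_pos (α := K))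
  omega

theorem card_mul_le {K K' S : Subgroup G} (h1 : K ≤ S) (h2 : K' ≤ S) {L : Subgroup G} (h : K ⊓ K' ≤ L) :
    Nat.card K * Nat.card K' ≤ Nat.card L * Nat.card S := by
  rw [← SetLike.coe_sort_coe K', ← SetLike.coe_sort_coe S, Nat.card_coe_set_eq, Nat.card_coe_set_eq]
  exact cnt (X := K') (T := S) (fun s x => s * x) (fun s hs x hx => mul_mem (h1 hs) (h2 hx))
    (fun s hs s' hs' x hx x' hx' e => h (mem_inf.2 ⟨mul_mem (inv_mem hs) hs', by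
      rw [show s⁻¹ * s' = x * x'⁻¹ by rw [eq_mul_inv_iff_mul_eq, mul_assoc, ← e, inv_mul_cancel_left]]
      exact K'.mul_mem hx (K'.inv_mem hx')⟩)) fun _ _ _ _ _ _ e => mul_left_cancel e

theorem dvd_free {H : Subgroup G} {X : Set G} (h1 : ∀ h ∈ H, ∀ x ∈ X, h * x * h⁻¹ ∈ X)
    (h2 : ∀ h ∈ H, ∀ x ∈ X, h * x * h⁻¹ = x → h = 1) : Nat.card H ∣ X.ncard := by
  let _ : MulAction H X :=
    { smul := fun a x => ⟨a * x * (a : G)⁻¹, h1 a a.2 x x.2⟩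
      one_smul := fun x => Subtype.ext (by change (1 : G) * x * 1⁻¹ = x; simp)
      mul_smul := fun a b x => Subtype.ext (by
        change (a * b : G) * x * (a * b : G)⁻¹ = a * (b * x * (b : G)⁻¹) * (a : G)⁻¹; group) }
  have e := MulAction.selfEquivOrbitsQuotientProd (G := H) (X := X) fun x => by
    rw [eq_bot_iff]
    intro a ha
    exact Subtype.ext (h2 a a.2 x x.2 (congrArg Subtype.val ha))
  rw [← Nat.card_coe_set_eq, Nat.card_congr e, Nat.card_prod]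
  exact Dvd.intro_left _ rfl

theorem ncard_diff {A B : Subgroup G} (h : A ≤ B) : ((B : Set G) \ A).ncard = Nat.card B - Nat.card A :=
  Set.ncard_sdiff h

theorem eq_one_of_odd {H : Subgroup G} (ho : Odd (Nat.card H)) {x : G} (hx : x ∈ H) (h2 : x * x = 1) : x = 1 := by
  have k1 : orderOf x ∣ 2 := orderOf_dvd_of_pow_eq_one (by rw [pow_two, h2])
  have k2 := Odd.of_dvd_nat ho (H.orderOf_dvd_natCard hx)
  rcases (Nat.dvd_prime Nat.prime_two).1 k1 with e | e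
  · exact orderOf_eq_one_iff.1 e
  · rw [e] at k2; exact absurd k2 (by decide)

theorem mem_of_sq {H Y : Subgroup G} (ho : Odd (Nat.card H)) {x : G} (hx : x ∈ H) (h2 : x * x ∈ Y) : x ∈ Y :=
  mem_of_pow_mem (p := 2) (k := 1) (Odd.of_dvd_nat ho (H.orderOf_dvd_natCard hx)).coprime_two_right
    (by rwa [pow_one, pow_two])

omit [Finite G] in
theorem cent_cj {g x : G} (hg : g ∈ 𝐍[S]) (hx : x ∈ 𝐂[S]) : g * x * g⁻¹ ∈ 𝐂[S] :=
  conj_mem_of_norm (norm_cent le_rfl hg) hx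

/-- The elements of `S` centralized by `e` modulo the center. -/
def S1 (S : Subgroup G) (e : G) : Subgroup G where
  carrier := {s | s ∈ S ∧ e * s * e⁻¹ * s⁻¹ ∈ 𝐂[S]}
  one_mem' := ⟨one_mem _, by simp⟩
  mul_mem' := fun {a b} ha hb => ⟨mul_mem ha.1 hb.1, by
    have := mul_mem ha.2 (cent_cj (le_normalizer ha.1) hb.2)
    rwa [show e * a * e⁻¹ * a⁻¹ * (a * (e * b * e⁻¹ * b⁻¹) * a⁻¹) = e * (a * b) * e⁻¹ * (a * b)⁻¹ by group] at this⟩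
  inv_mem' := fun {a} ha => ⟨inv_mem ha.1, by
    have := cent_cj (le_normalizer (inv_mem ha.1)) (inv_mem ha.2)
    rwa [show a⁻¹ * (e * a * e⁻¹ * a⁻¹)⁻¹ * a⁻¹⁻¹ = e * a⁻¹ * e⁻¹ * a⁻¹⁻¹ by group] at this⟩

theorem mem_S1 {e s : G} : s ∈ S1 S e ↔ s ∈ S ∧ e * s * e⁻¹ * s⁻¹ ∈ 𝐂[S] := Iff.rfl

theorem S1_le (e : G) : S1 S e ≤ S := fun _ h => h.1

theorem Zc_le_S1 {e : G} (he : e ∈ 𝐍[S]) : Zc S ≤ S1 S e := fun _ h =>
  ⟨h.1, mul_mem (cent_cj he h.2) (inv_mem h.2)⟩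

theorem cj_mem_S1 {e g s : G} (hg : g ∈ 𝐍[S]) (hs : s ∈ S1 S e) : g * s * g⁻¹ ∈ S1 S (g * e * g⁻¹) :=
  ⟨conj_mem_of_norm hg hs.1, by
    have := cent_cj hg hs.2
    rwa [show g * (e * s * e⁻¹ * s⁻¹) * g⁻¹ = g * e * g⁻¹ * (g * s * g⁻¹) * (g * e * g⁻¹)⁻¹ * (g * s * g⁻¹)⁻¹ by
      group] at this⟩

theorem S1_mul {e e' s : G} (he : e ∈ 𝐍[S]) (h1 : s ∈ S1 S e) (h2 : s ∈ S1 S e') : s ∈ S1 S (e * e') :=
  ⟨h1.1, by
    have := mul_mem (cent_cj he h2.2) h1.2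
    rwa [show e * (e' * s * e'⁻¹ * s⁻¹) * e⁻¹ * (e * s * e⁻¹ * s⁻¹) = e * e' * s * (e * e')⁻¹ * s⁻¹ by group] at this⟩

theorem card_S1_cj {e g : G} (hg : g ∈ 𝐍[S]) : Nat.card (S1 S (g * e * g⁻¹)) = Nat.card (S1 S e) := by
  rw [← card_cj (S1 S e) g]
  congr 3
  refine le_antisymm (fun s hs => mem_cj.2 ?_) (cj_le_iff.2 fun s hs => cj_mem_S1 hg hs)
  simpa [mul_assoc] using cj_mem_S1 (inv_mem hg) hs

theorem card_C1_cj {A : Subgroup G} {e g : G} (hg : g ∈ 𝐍[A]) :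
    Nat.card (A ⊓ C1 (g * e * g⁻¹) : Subgroup G) = Nat.card (A ⊓ C1 e : Subgroup G) := by
  rw [← card_cj (A ⊓ C1 e) g]
  congr 3
  refine le_antisymm (fun s hs => mem_cj.2 (mem_inf.2 ⟨conj_mem_of_norm' hg hs.1, mem_C1.2 ?_⟩))
    (cj_le_iff.2 fun s hs => mem_inf.2 ⟨conj_mem_of_norm hg hs.1, mem_C1.2 ?_⟩)
  · simpa [mul_assoc] using (mem_C1.1 hs.2).map (MulAut.conj g⁻¹)
  · simpa [mul_assoc] using (mem_C1.1 hs.2).map (MulAut.conj g)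

/-- The involution `d` normalizes two Sylow subgroups. -/
structure Co (N S R : Subgroup G) (q : ℕ) (d : G) : Prop extends Oi N S d where
  bn : BN N q
  hS : Syl 2 S N
  hR : Syl 2 R N
  ne : R ≠ S
  nR : d ∈ 𝐍[R]

namespace Co

variable {d : G} (h : Co N S R q d)
include h

theorem inv_eq : d⁻¹ = d := inv_eq_of_mul_eq_one_right h.sq

theorem dd (x : G) : d * (d * x) = x := by rw [← mul_assoc, h.sq, one_mul]

theorem nc : d ∉ 𝐂[N] := by simpa using h.nm 1 (one_mem _)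

theorem nH : d ∈ 𝐍[Hs N S R] := by
  have k : ∀ {A : Subgroup G}, d ∈ 𝐍[A] → zpowers d ≤ 𝐍[A] := fun k => zpowers_le.2 k
  exact norm_inf (k h.nN) (norm_inf (norm_norm (k h.nS)) (norm_norm (k h.nR))) (mem_zpowers d)

theorem kH {x : G} (hx : x ∈ Hs N S R) : x⁻¹ * d * x⁻¹⁻¹ * d ∈ Hs N S R := by
  have := mul_mem (inv_mem hx) (conj_mem_of_norm h.nH hx)
  rwa [h.inv_eq, ← mul_assoc, ← mul_assoc, ← inv_inv x, inv_inv x⁻¹] at this

theorem sqA {a : G} (ha : a ∈ Zc S) : a * a = 1 := ((h.bn.mem_Zc_iff h.hS).1 ha).2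

theorem exists_z : ∃ z ∈ Zc S, z ≠ 1 ∧ Commute z d :=
  exists_comm (h.hS.pg.to_le inf_le_left) (h.bn.Zc_ne h.hS) ⟨1, by rw [pow_one, pow_two, h.sq]⟩ (norm_Zc h.nS)

theorem comm_S1 {s : G} (hs : s ∈ S) : d * s * d⁻¹ * s⁻¹ ∈ S1 S d := by
  have m : d * s * d⁻¹ * s⁻¹ ∈ S := mul_mem (conj_mem_of_norm h.nS hs) (inv_mem hs)
  refine ⟨m, ?_⟩
  have := h.bn.sq h.hS _ (inv_mem m)
  rwa [show d * (d * s * d⁻¹ * s⁻¹) * d⁻¹ = (d * s * d⁻¹ * s⁻¹)⁻¹ by simp [mul_assoc, h.dd, h.inv_eq]]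

theorem le_sq_S1 : Nat.card S * q ≤ Nat.card (S1 S d) * Nat.card (S1 S d) := by
  rw [← h.bn.cardZ h.hS]
  refine cnt (X := Zc S) (T := S1 S d) (fun s a => d * s * d⁻¹ * s⁻¹ * a)
    (fun s hs a ha => mul_mem (h.comm_S1 hs) (Zc_le_S1 h.nS ha)) (fun s hs s' hs' a ha a' ha' e => ?_)
    fun _ _ _ _ _ _ e => mul_left_cancel e
  refine ⟨mul_mem (inv_mem hs) hs', ?_⟩
  have e1 : d * s' * d⁻¹ * s'⁻¹ = d * s * d⁻¹ * s⁻¹ * (a * a'⁻¹) := by rw [← mul_assoc, e, mul_inv_cancel_right]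
  have := cent_cj (le_normalizer (inv_mem hs)) (mul_mem ha.2 (inv_mem ha'.2))
  rwa [show s⁻¹ * (a * a'⁻¹) * s⁻¹⁻¹ = d * s⁻¹ * d⁻¹ * (d * s * d⁻¹ * s⁻¹ * (a * a'⁻¹)) * s by group, ← e1,
    show d * s⁻¹ * d⁻¹ * (d * s' * d⁻¹ * s'⁻¹) * s = d * (s⁻¹ * s') * d⁻¹ * (s⁻¹ * s')⁻¹ by group] at this

theorem S1_fpf {k s : G} (hk : k ∈ Hs N S R) (h1 : k ≠ 1) (hs : s ∈ S1 S k) : s ∈ Zc S :=
  ⟨hs.1, h.bn.fpf h.hS h.hR h.ne k hk h1 s hs.1 hs.2⟩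

/-- Semiregular action outside the center. -/
theorem dvd_sub {Y D : Subgroup G} (hY : Y ≤ Hs N S R) (h1 : Zc S ≤ D) (h2 : D ≤ S)
    (h3 : ∀ y ∈ Y, ∀ s ∈ D, y * s * y⁻¹ ∈ D) : ∃ v, Nat.card D = q * v ∧ Nat.card Y ∣ v - 1 := by
  obtain ⟨v, hv⟩ := card_dvd_of_le h1
  rw [h.bn.cardZ h.hS] at hv
  have k := dvd_free (H := Y) (X := (D : Set G) \ Zc S)
    (fun y hy s hs => ⟨h3 y hy s hs.1, fun m => hs.2 (by
      simpa [mul_assoc] using conj_mem_of_norm' (norm_Zc (hY hy).2.1) m)⟩)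
    fun y hy s hs e => by_contra fun n => hs.2 (h.S1_fpf (hY hy) n ⟨h2 hs.1, by rw [e, mul_inv_cancel]; exact one_mem _⟩)
  rw [ncard_diff h1, h.bn.cardZ h.hS, hv, ← Nat.mul_sub_one] at k
  obtain ⟨m, -, rfl⟩ := h.bn.two_pow
  exact ⟨v, hv, ((Odd.of_dvd_nat (h.bn.odd_H h.hS h.hR h.ne) (card_dvd_of_le hY)).coprime_two_right.pow_right
    m).dvd_of_dvd_mul_left k⟩

theorem cent_of_trans {z : G} (hz : z ∈ Zc S) (h1 : z ≠ 1) (hc : Commute z d)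
    (hk : ∀ x ∈ Hs N S R, Commute (x⁻¹ * d * x⁻¹⁻¹ * d) z) : d ∈ 𝐂[Zc S] := mem_cent.2 fun a ha => by
  by_cases a1 : a = 1
  · simp [a1]
  obtain ⟨x, hx, rfl⟩ := h.bn.trans h.hS h.hR h.ne z hz a ha h1 a1
  have := ((hk x hx).mul_left hc.symm).map (MulAut.conj x)
  simpa [mul_assoc, h.sq] using this.symm.eq

theorem exists_k : ∃ x ∈ Hs N S R, x⁻¹ * d * x⁻¹⁻¹ * d ≠ 1 := by
  by_contra hn
  push Not at hn
  obtain ⟨z, hz, z1, zc⟩ := h.exists_z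
  have dA := h.cent_of_trans hz z1 zc fun x hx => hn x hx ▸ Commute.one_left z
  by_cases hc : Nat.card S = q ^ 3
  swap
  · exact h.nc (h.bn.c3 h.hS h.hR h.ne hc h.nN h.nS h.nR dA)
  obtain ⟨v, hv, k⟩ := h.dvd_sub (Y := Hs N S R) le_rfl (Zc_le_S1 h.nS) (S1_le d) fun y hy s hs => by
    have := cj_mem_S1 hy.2.1 hs
    rwa [show y * d * y⁻¹ = d by
      have := hn _ (inv_mem hy)
      rw [inv_inv] at this
      rw [eq_inv_of_mul_eq_one_left this, h.inv_eq]] at this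
  have q4 := h.bn.four
  have k1 := h.le_sq_S1
  have k2 := card_dvd_of_le (S1_le (S := S) d)
  have k3 : Nat.card (S1 S d) ≠ Nat.card S := fun e => h.nc (h.bn.c2 h.hS h.hR h.ne h.nN h.nS h.nR dA fun s hs => by
    rw [← eq_of_le_of_card_ge (S1_le d) e.ge] at hs
    exact hs.2)
  rw [hv, hc] at k1 k2 k3
  rw [pow_succ', Nat.mul_dvd_mul_iff_left (by omega)] at k2
  have k4 : q ≤ v := by
    by_contra l
    have : v * v < q * q := Nat.mul_self_lt_mul_self (by omega)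
    nlinarith [Nat.mul_lt_mul_of_pos_left this (show 0 < q * q by positivity)]
  obtain ⟨w, hw⟩ := k2
  have w2 : 2 ≤ w := by
    rcases w with _ | _ | w
    · simp at hw; omega
    · exact absurd (by rw [pow_succ', hw, zero_add, mul_one]) k3
    · omega
  obtain ⟨j, hj⟩ := k
  have j1 : 1 ≤ j := Nat.pos_of_ne_zero fun e => by rw [e] at hj; omega
  have v2 : v * 2 ≤ q ^ 2 := hw ▸ Nat.mul_le_mul_left v w2
  have H1 := Nat.mul_le_mul_left (Nat.card (Hs N S R)) j1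
  rcases h.bn.cases h.hS h.hR h.ne with e | ⟨e, -⟩ | ⟨-, e | e⟩
  · rw [hc] at e; nlinarith [Nat.pow_le_pow_left q4 2]
  · rw [hc] at e; nlinarith [Nat.pow_le_pow_left q4 2]
  · omega
  · obtain rfl : j = 1 := by
      by_contra l
      have := Nat.mul_le_mul_left (Nat.card (Hs N S R)) (show 2 ≤ j by omega)
      omega
    obtain ⟨m, hm, rfl⟩ := h.bn.two_pow
    obtain ⟨i, -, rfl⟩ := (Nat.dvd_prime_pow Nat.prime_two).1 (⟨w, by rw [← hw, pow_mul]⟩ : v ∣ 2 ^ (m * 2))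
    have i2 : 2 ≤ i := hm.trans ((Nat.pow_le_pow_iff_right (by decide)).1 k4)
    have d1 : 4 ∣ 2 ^ i := pow_dvd_pow 2 i2
    have d2 : 4 ∣ (2 ^ m) ^ 2 := (pow_dvd_pow 2 hm).trans (dvd_pow_self _ two_ne_zero)
    omega

theorem sq_C1 (hd : d ∉ 𝐂[Zc S]) : Nat.card (Zc S ⊓ C1 d : Subgroup G) ^ 2 = q := by
  obtain ⟨z, hz, z1, zc⟩ := h.exists_z
  obtain ⟨x, hx, n⟩ : ∃ x ∈ Hs N S R, ¬ Commute (x⁻¹ * d * x⁻¹⁻¹ * d) z := by
    by_contra hn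
    push Not at hn
    exact hd (h.cent_of_trans hz z1 zc hn)
  have k := card_mul_le (K := Zc S ⊓ C1 (x⁻¹ * d * x⁻¹⁻¹)) (K' := Zc S ⊓ C1 d) (S := Zc S) (L := ⊥)
    inf_le_left inf_le_left fun a ha => by_contra fun a1 => n (comm_of_cent (h.bn.h0 h.hS h.hR h.ne (h.kH hx) ha.1.1 a1
      ((mem_C1.1 ha.1.2).mul_right (mem_C1.1 ha.2.2)).symm) hz).symm
  rw [card_C1_cj (inv_mem (norm_Zc hx.2.1)), card_bot, one_mul] at k
  rw [← h.bn.cardZ h.hS]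
  exact le_antisymm (by rwa [pow_two]) (card_le_sq (fun _ => h.sqA) h.sq (norm_Zc h.nS))

theorem cases : Nat.card S = q ^ 3 ∨ Nat.card S = q ∧ Nat.card (Zc S ⊓ C1 d : Subgroup G) ^ 2 = q := by
  refine or_iff_not_imp_left.2 fun hc => ?_
  have k := h.sq_C1 fun dA => h.nc (h.bn.c3 h.hS h.hR h.ne hc h.nN h.nS h.nR dA)
  rcases h.bn.cases h.hS h.hR h.ne with e | ⟨-, ⟨n, ho, e⟩, -⟩ | ⟨e, -⟩
  · exact ⟨e, k⟩
  · rw [e] at k
    obtain ⟨i, -, l⟩ := (Nat.dvd_prime_pow Nat.prime_two).1 (Dvd.intro _ ((pow_two _).symm.trans k))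
    rw [l, ← pow_mul] at k
    exact absurd (Nat.pow_right_injective le_rfl k ▸ ho) (by simp)
  · exact absurd e hc

theorem card_S1 (hc : Nat.card S = q ^ 3) : Nat.card (S1 S d) = q * q := by
  obtain ⟨x, hx, n⟩ := h.exists_k
  have k := card_mul_le (S1_le (S := S) (x⁻¹ * d * x⁻¹⁻¹)) (S1_le d) (L := Zc S) fun s hs =>
    h.S1_fpf (h.kH hx) n (S1_mul (mul_mem (mul_mem (inv_mem hx.2.1) h.nS) (inv_mem (inv_mem hx.2.1))) hs.1 hs.2)
  have k1 := h.le_sq_S1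
  rw [card_S1_cj (inv_mem hx.2.1), h.bn.cardZ h.hS, mul_comm q] at k
  exact Nat.mul_self_inj.1 ((le_antisymm k k1).trans (by rw [hc]; ring))

theorem mem_Y {x : G} (hx : x ∈ Hs N S R) (e : x⁻¹ * d * x⁻¹⁻¹ * d = 1) : x ∈ Hs N S R ⊓ C1 d :=
  ⟨hx, mem_C1.2 (by
    rw [mul_eq_one_iff_eq_inv, h.inv_eq, inv_inv, mul_assoc, inv_mul_eq_iff_eq_mul] at e
    exact e.symm)⟩

theorem Y_S1 {y s : G} (hy : y ∈ Hs N S R ⊓ C1 d) (hs : s ∈ S1 S d) : y * s * y⁻¹ ∈ S1 S d := by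
  have := cj_mem_S1 hy.1.2.1 hs
  rwa [(mem_C1.1 hy.2).eq, mul_inv_cancel_right] at this

theorem card_Y (hc : Nat.card S = q ^ 3) : Nat.card (Hs N S R ⊓ C1 d : Subgroup G) = q - 1 := by
  have q4 := h.bn.four
  obtain ⟨v, hv, m, k⟩ := h.dvd_sub (Y := Hs N S R ⊓ C1 d) inf_le_left (Zc_le_S1 h.nS) (S1_le d) fun _ hy _ => h.Y_S1 hy
  rw [h.card_S1 hc] at hv
  obtain rfl := Nat.eq_of_mul_eq_mul_left (by omega) hv
  have k1 := cnt (S := Hs N S R) (K := Hs N S R ⊓ C1 d) (X := (S1 S d : Set G) \ Zc S) (T := (S : Set G) \ Zc S)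
    (fun x s => x * s * x⁻¹) (fun y hy s hs => ⟨conj_mem_of_norm hy.2.1 hs.1.1, fun m => hs.2 (by
      simpa [mul_assoc] using conj_mem_of_norm' (norm_Zc hy.2.1) m)⟩)
    (fun x hx x' hx' s hs s' hs' e => by
      have g := mul_mem (inv_mem hx) hx'
      refine h.mem_Y g (by_contra fun n => hs'.2 (h.S1_fpf (h.kH g) n (S1_mul
        (mul_mem (mul_mem (inv_mem g.2.1) h.nS) (inv_mem (inv_mem g.2.1))) ?_ hs'.1)))
      have := cj_mem_S1 (inv_mem g.2.1) hs.1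
      rwa [show (x⁻¹ * x')⁻¹ * s * (x⁻¹ * x')⁻¹⁻¹ = x'⁻¹ * (x * s * x⁻¹) * x' by group, show x * s * x⁻¹ = _ from e,
        show x'⁻¹ * (x' * s' * x'⁻¹) * x' = s' by group] at this)
    fun _ _ _ _ _ _ e => mul_left_cancel (mul_right_cancel e)
  rw [ncard_diff (Zc_le_S1 h.nS), ncard_diff inf_le_left, h.card_S1 hc, hc, h.bn.cardZ h.hS] at k1
  have k2 := h.bn.card_H h.hS h.hR h.ne
  have k3 := h.bn.card_H0 h.hS h.hR h.ne hc
  obtain ⟨n, hn, e2⟩ := h.bn.two_pow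
  have o : Odd (q - 1) := by
    rw [e2]; exact Nat.Even.sub_odd Nat.one_le_two_pow ((Nat.even_pow' (by omega)).2 even_two) odd_one
  obtain ⟨p, rfl⟩ : ∃ p, q = p + 1 := ⟨q - 1, by omega⟩
  rw [Nat.add_sub_cancel] at *
  rw [show (p + 1) * (p + 1) - (p + 1) = (p + 1) * p by rw [← Nat.mul_sub_one, Nat.add_sub_cancel],
    show (p + 1) ^ 3 - (p + 1) = (p + 1) * p * (p + 2) by
      rw [Nat.sub_eq_iff_eq_add (Nat.le_self_pow (by decide) _)]; ring, k2] at k1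
  generalize Nat.card (Hs N S R ⊓ C1 d : Subgroup G) = y at *
  generalize Nat.card (Hs N S R ⊓ 𝐂[Zc S] : Subgroup G) = c at *
  have k4 : p * c ≤ y * (p + 2) := Nat.le_of_mul_le_mul_right (c := (p + 1) * p) (by linarith)
    (Nat.mul_pos (by omega) (by omega))
  have y0 : 0 < y := Nat.pos_of_ne_zero fun e => by rw [e] at k; omega
  have om := (Nat.odd_mul.1 (k ▸ o)).2
  rcases k3 with k3 | k3
  · have : p ≤ y := Nat.le_of_mul_le_mul_right (c := p + 2) (by rw [k3] at k4; exact k4) (by positivity)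
    exact le_antisymm (Nat.le_of_dvd (by omega) ⟨m, k⟩) this
  · have : y * m ≤ y * 3 := Nat.le_of_mul_le_mul_right (c := p + 2) (by rw [← k]; nlinarith) (by positivity)
    have := Nat.le_of_mul_le_mul_left this y0
    interval_cases m
    · exact absurd om (by decide)
    · omega
    · exact absurd om (by decide)
    · omega

theorem Y_inf (hc : Nat.card S = q ^ 3) {y : G} (hy : y ∈ Hs N S R ⊓ C1 d) (h0 : y ∈ 𝐂[Zc S]) : y = 1 := by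
  have q4 := h.bn.four
  have k1 := (Hs N S R ⊓ C1 d).orderOf_dvd_natCard hy
  have k2 := (Hs N S R ⊓ 𝐂[Zc S]).orderOf_dvd_natCard ⟨hy.1, h0⟩
  rw [h.card_Y hc] at k1
  have k3 : orderOf y ∣ q + 1 := by
    rcases h.bn.card_H0 h.hS h.hR h.ne hc with e | e <;> rw [← e]
    exacts [k2, k2.mul_left 3]
  have := Nat.dvd_sub k3 k1
  rw [show q + 1 - (q - 1) = 2 by omega, orderOf_dvd_iff_pow_eq_one, pow_two] at this
  exact eq_one_of_odd (h.bn.odd_H h.hS h.hR h.ne) hy.1 this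

theorem cent_A (hc : Nat.card S = q ^ 3) : d ∈ 𝐂[Zc S] := mem_cent.2 fun a ha => by
  by_cases a1 : a = 1
  · simp [a1]
  obtain ⟨z, hz, z1, zc⟩ := h.exists_z
  obtain ⟨y, hy, rfl⟩ := onto (S := Hs N S R ⊓ C1 d) (K := ⊥) (T := (Zc S : Set G) \ (⊥ : Subgroup G))
    (fun y => y * z * y⁻¹) (fun y hy => ⟨conj_mem_of_norm (norm_Zc hy.1.2.1) hz, by simpa using z1⟩)
    (fun y hy y' hy' e => h.Y_inf hc (mul_mem (inv_mem hy) hy') (h.bn.h0 h.hS h.hR h.ne (mul_mem (inv_mem hy) hy').1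
      hz z1 (by
        show y⁻¹ * y' * z = z * (y⁻¹ * y')
        calc _ = y⁻¹ * (y' * z * y'⁻¹) * y' := by group
          _ = _ := by rw [← show y * z * y⁻¹ = _ from e]; group)))
    (by rw [ncard_diff bot_le, card_bot, one_mul, h.card_Y hc, h.bn.cardZ h.hS]) (t := a) ⟨ha, a1⟩
  exact (((mem_C1.1 hy.2).mul_left zc).mul_left (mem_C1.1 hy.2).inv_left).eq

theorem inv_H0 (hc : Nat.card S = q ^ 3) {x : G} (hx : x ∈ Hs N S R) (h0 : x ∈ 𝐂[Zc S]) : d * x * d⁻¹ = x⁻¹ := by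
  have m := conj_mem_of_norm h.nH hx
  refine eq_inv_of_mul_eq_one_right (h.Y_inf hc ⟨mul_mem hx m, mem_C1.2 ?_⟩ (mul_mem h0 (cent_cj (norm_Zc h.nS) h0)))
  show x * (d * x * d⁻¹) * d = d * (x * (d * x * d⁻¹))
  rw [(h.bn.H_comm h.hS h.hR h.ne hx m).eq]
  conv_lhs => rw [← (h.bn.H_comm h.hS h.hR h.ne hx m).eq]
  simp [mul_assoc, h.sq, h.dd, h.inv_eq]

theorem cent_le (hc : Nat.card S = q ^ 3) : S ⊓ C1 d ≤ Zc S := by
  have q4 := h.bn.four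
  have k0 : Zc S ≤ S ⊓ C1 d := fun a ha => ⟨ha.1, mem_C1.2 (comm_of_cent (h.cent_A hc) ha)⟩
  have k1 : S ⊓ C1 d ≤ S1 S d := fun s hs => ⟨hs.1, by
    rw [← (mem_C1.1 hs.2).eq, mul_inv_cancel_right, mul_inv_cancel]; exact one_mem _⟩
  obtain ⟨v, hv, k⟩ := h.dvd_sub (Y := Hs N S R ⊓ C1 d) inf_le_left k0 inf_le_left fun y hy s hs =>
    mem_inf.2 ⟨conj_mem_of_norm hy.1.2.1 hs.1, (C1 d).mul_mem ((C1 d).mul_mem hy.2 hs.2) ((C1 d).inv_mem hy.2)⟩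
  rw [h.card_Y hc] at k
  by_cases v1 : v - 1 = 0
  · refine (eq_of_le_of_card_ge k0 ?_).ge
    rw [hv, h.bn.cardZ h.hS]
    exact (Nat.mul_le_mul_left q (show v ≤ 1 by omega)).trans_eq (mul_one q)
  have k2 := eq_of_le_of_card_ge k1 (by
    have := Nat.le_of_dvd (by omega) k
    rw [hv, h.card_S1 hc]
    exact Nat.mul_le_mul_left q (by omega))
  have k3 : S ≤ S1 S d := fun s hs => ⟨hs, by
    have m := h.comm_S1 hs
    rw [← k2] at m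
    refine (h.bn.om h.hS _ m.1).1 (mul_eq_one_iff_eq_inv.2 ?_)
    calc _ = d * (d * s * d⁻¹ * s⁻¹) * d⁻¹ := by rw [← (mem_C1.1 m.2).eq, mul_inv_cancel_right]
      _ = _ := by simp [mul_assoc, h.dd, h.inv_eq]⟩
  have := card_le_of_le k3
  rw [hc, h.card_S1 hc] at this
  nlinarith [Nat.mul_le_mul q4 q4]

theorem fib {r r' : G} (e : r * d * r⁻¹ * d⁻¹ = r' * d * r'⁻¹ * d⁻¹) : r⁻¹ * r' ∈ C1 d := mem_C1.2 (by
  show r⁻¹ * r' * d = d * (r⁻¹ * r')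
  calc _ = r⁻¹ * (r' * d * r'⁻¹ * d⁻¹) * d * r' := by group
    _ = _ := by rw [← e]; group)

theorem onto_S1 (hc : Nat.card S = q ^ 3) {s : G} (hs : s ∈ S1 S d) : ∃ r ∈ S, s * d = r * d * r⁻¹ := by
  obtain ⟨r, hr, e⟩ := onto (S := S) (K := Zc S) (T := S1 S d) (fun r => r * d * r⁻¹ * d⁻¹)
    (fun r hr => by simpa [mul_assoc] using inv_mem (h.comm_S1 hr))
    (fun r hr r' hr' e => h.cent_le hc (mem_inf.2 ⟨mul_mem (inv_mem hr) hr', h.fib e⟩))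
    (by rw [h.bn.cardZ h.hS, hc, ← Nat.card_coe_set_eq, SetLike.coe_sort_coe, h.card_S1 hc]; exact le_of_eq (by ring)) hs
  exact ⟨r, hr, by rw [← e, inv_mul_cancel_right]⟩

theorem j2 {s : G} (hs : s ∈ S) (h2 : s * d * (s * d) = 1) : ∃ r ∈ S, s * d = r * d * r⁻¹ := by
  have e : d * s * d⁻¹ = s⁻¹ := eq_inv_of_mul_eq_one_right (by rw [← h2, h.inv_eq]; group)
  rcases h.cases with hc | ⟨hc, k⟩
  · exact h.onto_S1 hc ⟨hs, by rw [e]; exact h.bn.sq h.hS _ (inv_mem hs)⟩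
  have eA := h.bn.Zc_eq h.hS hc
  have sq : ∀ a ∈ S, a⁻¹ = a := fun a ha => inv_eq_of_mul_eq_one_right (h.sqA (eA.ge ha))
  rw [eA] at k
  obtain ⟨r, hr, e⟩ := onto (S := S) (K := S ⊓ C1 d) (T := (S ⊓ C1 d : Subgroup G)) (fun r => r * d * r⁻¹ * d⁻¹)
    (fun r hr => by
      have m : r * d * r⁻¹ * d⁻¹ ∈ S := by simpa [mul_assoc] using (inv_mem (h.comm_S1 hr)).1
      refine ⟨m, mem_C1.2 ?_⟩
      show r * d * r⁻¹ * d⁻¹ * d = d * (r * d * r⁻¹ * d⁻¹)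
      conv_rhs => rw [← sq _ m]
      simp [mul_assoc, h.dd, h.inv_eq, h.sq])
    (fun r hr r' hr' e => mem_inf.2 ⟨mul_mem (inv_mem hr) hr', h.fib e⟩)
    (by rw [← Nat.card_coe_set_eq, SetLike.coe_sort_coe, ← pow_two, k, hc]) (t := s)
    ⟨hs, mem_C1.2 (by rw [sq s hs, mul_inv_eq_iff_eq_mul] at e; exact e.symm)⟩
  exact ⟨r, hr, by rw [← e, inv_mul_cancel_right]⟩

theorem card_Y' (hc : Nat.card S = q) :
    Nat.card (Hs N S R ⊓ C1 d : Subgroup G) = Nat.card (Zc S ⊓ C1 d : Subgroup G) - 1 := by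
  have q4 := h.bn.four
  have H0 := h.bn.H0_eq_bot h.hS h.hR h.ne (by rw [hc]; nlinarith [Nat.mul_le_mul q4 q4])
  obtain ⟨z, hz, z1, zc⟩ := h.exists_z
  have k : ∀ x ∈ Hs N S R, Commute x z → x = 1 := fun x hx c =>
    H0.le ⟨hx, h.bn.h0 h.hS h.hR h.ne hx hz z1 c⟩
  rw [← card_bot (G := G), ← ncard_diff bot_le, ← SetLike.coe_sort_coe, Nat.card_coe_set_eq]
  refine Set.ncard_congr (fun y _ => y * z * y⁻¹) (fun y hy => ⟨⟨conj_mem_of_norm (norm_Zc hy.1.2.1) hz,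
    (C1 d).mul_mem ((C1 d).mul_mem hy.2 (mem_C1.2 zc)) ((C1 d).inv_mem hy.2)⟩, by simpa using z1⟩) (fun y y' hy hy' e => ?_) fun a ha => ?_
  · refine inv_mul_eq_one.1 (k _ (mul_mem (inv_mem hy.1) hy'.1) ?_)
    show y⁻¹ * y' * z = z * (y⁻¹ * y')
    calc _ = y⁻¹ * (y' * z * y'⁻¹) * y' := by group
      _ = _ := by rw [← show y * z * y⁻¹ = _ from e]; group
  · obtain ⟨x, hx, rfl⟩ := h.bn.trans h.hS h.hR h.ne z hz a ha.1.1 z1 ha.2
    refine ⟨x, h.mem_Y hx (k _ (h.kH hx) (Commute.mul_left ?_ zc.symm)), rfl⟩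
    simpa [mul_assoc] using (mem_C1.1 ha.1.2).symm.map (MulAut.conj x⁻¹)

end Co

end Cfsg.Agent.HI.OutA
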