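import Mathlib
import Cfsg.Agent.HI.Api
import Cfsg.Agent.HI.OutA

/-! Involutions outside `S C(N)` (PLAN.md, section Out). -/

set_option autoImplicit false
set_option linter.unusedSectionVars false

namespace Cfsg.Agent.HI

open Subgroup MulAction Cfsg.Agent.TT Cfsg.Agent.Perm Cfsg.Agent.Perm.TT Cfsg.Agent.Loc.Mss
open Cfsg.Agent.OT

universe u v

variable {G : Type u} [Group G] [Finite G] {N S R : Subgroup G} {q : ℕ}

namespace BN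

variable (h : BN N q) (hS : Syl 2 S N) {t : G}
include h hS

theorem j6 (ht : Oi N S t) : ∃ R, Syl 2 R N ∧ R ≠ S ∧ t ∈ 𝐍[R] := by
  obtain ⟨R, hR, hne⟩ := h.two hS
  obtain ⟨s, hs, d, hd, e⟩ := h.dec hS hR hne ht.nN ht.nS
  have e' : d = s⁻¹ * t := by rw [e, inv_mul_cancel_left]
  have c : OutA.Co N S R q d := ⟨⟨e' ▸ mul_mem (inv_mem (le_normalizer (hS.le hs))) ht.nN,
    e' ▸ mul_mem (inv_mem (le_normalizer hs)) ht.nS, h.eq_one hS hR hne (by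
      have := mul_mem (inv_mem hs) (conj_mem_of_norm ht.nS (inv_mem hs))
      rw [inv_eq_of_mul_eq_one_right ht.sq] at this
      rw [e']
      simpa only [mul_assoc] using this) (mul_mem hd hd), fun s' hs' => by
    rw [e', ← mul_assoc]; exact ht.nm _ (mul_mem hs' (inv_mem hs))⟩, h, hS, hR, hne, hd⟩
  obtain ⟨r, hr, k⟩ := c.j2 hs (e ▸ ht.sq)
  refine ⟨cj(r, R), hR.cj_mem (hS.le hr), fun l => hne (cj_eq_cj.1 (l.trans (cj_of_mem hr).symm)), ?_⟩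
  rw [← cj_norm, e, k]
  exact conj_mem_cj hd

theorem out_co (ht : Oi N S t) : ∃ R, OutA.Co N S R q t :=
  let ⟨R, h1, h2, h3⟩ := h.j6 hS ht
  ⟨R, ht, h, hS, h1, h2, h3⟩

theorem j1 (ht : Oi N S t) {s : G} (hs : s ∈ S) (hc : Commute s t) : s ∈ 𝐂[S] := by
  obtain ⟨R, c⟩ := h.out_co hS ht
  rcases c.cases with e | ⟨e, -⟩
  · exact (c.cent_le e ⟨hs, mem_C1.2 hc⟩).2
  · exact ((h.Zc_eq hS e).ge hs).2

theorem j2 (ht : Oi N S t) {s : G} (hs : s ∈ S) (h2 : s * t * (s * t) = 1) :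
    ∃ r ∈ S, s * t = r * t * r⁻¹ :=
  let ⟨_, c⟩ := h.out_co hS ht
  c.j2 hs h2

theorem j3 (ht : Oi N S t) {s : G} (hs : s ∈ S) (hc : s * t * s⁻¹ * t⁻¹ ∈ 𝐂[S]) :
    s * s = 1 ∨ s * s = s * t * s⁻¹ * t⁻¹ := by
  obtain ⟨R, c⟩ := h.out_co hS ht
  rcases c.cases with e | ⟨e, -⟩
  · obtain ⟨r, -, k⟩ := c.onto_S1 e (s := s) ⟨hs, by simpa [mul_assoc] using inv_mem hc⟩
    have k1 : s * t * (s * t) = 1 := by rw [k]; simp [mul_assoc, c.dd]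
    have k2 : t * s⁻¹ * t⁻¹ = s := by
      rw [eq_comm, ← mul_inv_eq_one, ← k1]; simp [mul_assoc, c.inv_eq]
    exact Or.inr (by rw [mul_assoc s t, mul_assoc s, k2])
  · exact Or.inl (c.sqA ((h.Zc_eq hS e).ge hs))

theorem j4 (ht : Oi N S t) {D : Subgroup G} (hD : D ≤ S)
    (hc : ∀ d ∈ D, d * t * d⁻¹ * t⁻¹ ∈ 𝐂[S]) : Nat.card D ^ 2 ≤ Nat.card S * q := by
  obtain ⟨R, c⟩ := h.out_co hS ht
  rcases c.cases with e | ⟨e, -⟩
  · have k : D ≤ OutA.S1 S t := fun d hd => ⟨hD hd, by simpa [mul_assoc] using inv_mem (hc d hd)⟩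
    have := Nat.pow_le_pow_left (card_le_of_le k) 2
    rw [c.card_S1 e] at this
    exact this.trans_eq (by rw [e]; ring)
  · exact (Nat.pow_le_pow_left (card_le_of_le hD) 2).trans_eq (by rw [e, pow_two])

theorem j5 (ht : Oi N S t) : (t ∈ 𝐂[Zc S] ∧ Nat.card S = q ^ 3) ∨
    (Nat.card S = q ∧ Nat.card (Zc S ⊓ C1 t : Subgroup G) ^ 2 = q) :=
  let ⟨_, c⟩ := h.out_co hS ht
  c.cases.imp_left fun e => ⟨c.cent_A e, e⟩

omit h hS in
theorem out_three {a b : G} (ca : OutA.Co N S R q a) (cb : OutA.Co N S R q b) (cc : OutA.Co N S R q (a * b)) :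
    False := by
  have h := ca.bn
  have ho := h.odd_H ca.hS ca.hR ca.ne
  have q4 := h.four
  rcases ca.cases with e | ⟨e, ea⟩
  · obtain ⟨x, hx, n⟩ : ∃ x ∈ Hs N S R ⊓ 𝐂[Zc S], x ≠ 1 := by
      by_contra hn
      push Not at hn
      have := h.card_H0 ca.hS ca.hR ca.ne e
      rw [(eq_bot_iff_forall _).2 hn, card_bot] at this
      omega
    have k := cc.inv_H0 e hx.1 hx.2
    rw [show a * b * x * (a * b)⁻¹ = a * (b * x * b⁻¹) * a⁻¹ by group, cb.inv_H0 e hx.1 hx.2,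
      ca.inv_H0 e (inv_mem hx.1) ((𝐂[Zc S]).inv_mem hx.2), inv_inv] at k
    exact n (OutA.eq_one_of_odd ho hx.1 (mul_eq_one_iff_eq_inv.2 k))
  have ne : Nat.card S ≠ q ^ 3 := by rw [e]; nlinarith [Nat.mul_le_mul q4 q4]
  have Y : ∀ {d}, OutA.Co N S R q d → Hs N S R ⊓ C1 d = Hs N S R ⊓ C1 a := fun c =>
    eq_of_card_eq (h.cyc ca.hS ca.hR ca.ne) inf_le_left inf_le_left (by
      rw [c.card_Y' e, ca.card_Y' e, Nat.pow_left_injective two_ne_zero ((c.cases.resolve_left ne).2.trans ea.symm)])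
  have U : ∀ {d}, OutA.Co N S R q d → ∀ x ∈ Hs N S R, x * (d * x * d⁻¹) ∈ Hs N S R ⊓ C1 a := fun {d} c x hx => by
    have m := conj_mem_of_norm c.nH hx
    rw [← Y c]
    refine ⟨mul_mem hx m, mem_C1.2 ?_⟩
    show x * (d * x * d⁻¹) * d = d * (x * (d * x * d⁻¹))
    rw [(h.H_comm ca.hS ca.hR ca.ne hx m).eq]
    conv_lhs => rw [← (h.H_comm ca.hS ca.hR ca.ne hx m).eq]
    simp [mul_assoc, c.sq, c.dd, c.inv_eq]
  obtain ⟨x, hx, n⟩ := ca.exists_k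
  have k1 := U ca x hx
  have k2 := U cb x hx
  have k3 := U cc x hx
  have k4 : a * (x * (b * x * b⁻¹)) * a⁻¹ ∈ Hs N S R ⊓ C1 a := by
    rwa [← (mem_C1.1 k2.2).eq, mul_inv_cancel_right]
  have k5 := mul_mem (mul_mem k1 k3) (inv_mem k4)
  rw [show x * (a * x * a⁻¹) * (x * (a * b * x * (a * b)⁻¹)) * (a * (x * (b * x * b⁻¹)) * a⁻¹)⁻¹ =
    x * ((a * x * a⁻¹) * x * (a * x * a⁻¹)⁻¹) by group,
    ← (h.H_comm ca.hS ca.hR ca.ne hx (conj_mem_of_norm ca.nH hx)).eq, mul_inv_cancel_right] at k5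
  have := (mem_C1.1 (OutA.mem_of_sq ho hx k5).2).eq
  exact n (by rw [inv_inv, mul_assoc x⁻¹, ← this, inv_mul_cancel_left, ca.sq])

/-- A 2-group normalizing two Sylow subgroups has at most one involution. -/
theorem uniq (hR : Syl 2 R N) (hne : R ≠ S) {T : Subgroup G} (hT : IsPGroup 2 T) (h1 : T ≤ 𝐍[N])
    (h2 : T ≤ 𝐍[S]) (h3 : T ≤ 𝐍[R]) (h4 : T ⊓ 𝐂[N] = ⊥) {t t' : G} (ht : t ∈ T) (ht' : t' ∈ T)
    (e : t * t = 1) (e' : t' * t' = 1) (n : t ≠ 1) (n' : t' ≠ 1) : t = t' := by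
  have co : ∀ a ∈ T, a * a = 1 → a ≠ 1 → OutA.Co N S R q a := fun a ha a2 a1 =>
    ⟨⟨h1 ha, h2 ha, a2, fun s hs m => by
      have k : s ∈ 𝐍[R] := by simpa using mul_mem (cent_le_norm R (cent_anti hR.le m)) (inv_mem (h3 ha))
      rw [h.eq_one hS hR hne hs k, one_mul] at m
      exact a1 (h4.le ⟨ha, m⟩)⟩, h, hS, hR, hne, h3 ha⟩
  have key : ∀ a ∈ T, ∀ b ∈ T, a * a = 1 → b * b = 1 → a ≠ 1 → b ≠ 1 → Commute a b → a = b :=
    fun a ha b hb a2 b2 a1 b1 c => by_contra fun l => out_three (co a ha a2 a1) (co b hb b2 b1)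
      (co _ (mul_mem ha hb) (by rw [← pow_two, c.mul_pow, pow_two, pow_two, a2, b2, one_mul])
        fun k => l (by rw [eq_inv_of_mul_eq_one_left k, inv_eq_of_mul_eq_one_right b2]))
  have : Nontrivial T := (nontrivial_iff_ne_bot T).2 fun k => n (k.le ht)
  have := hT.center_nontrivial
  obtain ⟨z, hz⟩ := exists_prime_orderOf_dvd_card' (G := center T) 2
    (by obtain ⟨k, hk, l⟩ := (hT.to_subgroup (center T)).nontrivial_iff_card.1 this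
        exact l ▸ dvd_pow_self 2 hk.ne')
  have z2 : ((z : T) : G) * (z : T) = 1 := by
    rw [← coe_mul, ← coe_mul, ← pow_two, ← hz, pow_orderOf_eq_one]; rfl
  have z1 : ((z : T) : G) ≠ 1 := fun k => by
    rw [show z = 1 from Subtype.ext (Subtype.ext k)] at hz
    simp at hz
  have zc : ∀ a ∈ T, Commute a (z : T) := fun a ha => congrArg Subtype.val (mem_center_iff.1 z.2 ⟨a, ha⟩)
  exact (key _ ht _ z.1.2 e z2 n z1 (zc _ ht)).trans (key _ ht' _ z.1.2 e' z2 n' z1 (zc _ ht')).symm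

theorem out {Y : Subgroup G} (h1 : Y ≤ 𝐍[N]) (h2 : Y ≤ 𝐍[S]) (h3 : ∀ y ∈ Y, y * y ∈ S)
    (h4 : ∀ s ∈ S, ∀ y ∈ Y, s * y ∈ 𝐂[N] → s * y = 1) :
    Nat.card Y ≤ 2 * Nat.card (Y ⊓ S : Subgroup G) := by
  obtain ⟨R, hR, hne⟩ := h.two hS
  have t2 : ∀ a ∈ (S ⊔ Y) ⊓ 𝐍[R], a * a = 1 := fun a ha => by
    obtain ⟨s, hs, y, hy, rfl⟩ := (mem_sup_norm h2).1 ha.1
    refine h.eq_one hS hR hne ?_ ((𝐍[R]).mul_mem ha.2 ha.2)
    simpa [mul_assoc] using mul_mem (mul_mem hs (conj_mem_of_norm (h2 hy) hs)) (h3 y hy)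
  have u : ∀ a ∈ (S ⊔ Y) ⊓ 𝐍[R], ∀ b ∈ (S ⊔ Y) ⊓ 𝐍[R], a ≠ 1 → b ≠ 1 → a = b := fun a ha b hb =>
    h.uniq hS hR hne (pg_iff.2 fun x hx => ⟨1, by rw [pow_one, pow_two, t2 x hx]⟩)
      (inf_le_left.trans (sup_le (norm_of_le hS.le) h1)) (inf_le_left.trans (sup_le le_normalizer h2)) inf_le_right
      ((eq_bot_iff_forall _).2 fun x hx => by
        obtain ⟨s, hs, y, hy, rfl⟩ := (mem_sup_norm h2).1 hx.1.1
        exact h4 s hs y hy hx.2) ha hb (t2 a ha) (t2 b hb)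
  obtain ⟨c, hc⟩ : ∃ c, ∀ a ∈ (S ⊔ Y) ⊓ 𝐍[R], a ∈ ({1, c} : Set G) := by
    by_cases k : ∃ c ∈ (S ⊔ Y) ⊓ 𝐍[R], c ≠ 1
    · obtain ⟨c, hc, c1⟩ := k
      exact ⟨c, fun a ha => or_iff_not_imp_left.2 fun a1 => u a ha c hc a1 c1⟩
    · push Not at k
      exact ⟨1, fun a ha => Or.inl (k a ha)⟩
  have : ∀ y, ∃ d, y ∈ Y → d ∈ 𝐍[R] ∧ y * d⁻¹ ∈ S := fun y => by
    by_cases hy : y ∈ Y
    · obtain ⟨s, hs, d, hd, e⟩ := h.dec hS hR hne (h1 hy) (h2 hy)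
      exact ⟨d, fun _ => ⟨hd, by rwa [e, mul_inv_cancel_right]⟩⟩
    · exact ⟨1, fun k => absurd k hy⟩
  choose d hd using this
  have k := OutA.cnt1 (S := Y) (K := Y ⊓ S) (T := {1, c}) d (fun y hy => hc _ (mem_inf.2 ⟨by
      simpa using mul_mem (mem_sup_left (inv_mem (hd y hy).2) : _ ∈ S ⊔ Y) (mem_sup_right hy), (hd y hy).1⟩))
    fun y hy y' hy' e => mem_inf.2 ⟨mul_mem (inv_mem hy) hy', by
      have := conj_mem_of_norm' (h2 hy) (mul_mem (hd y' hy').2 (inv_mem (hd y hy).2))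
      simpa [e, mul_assoc] using this⟩
  rw [mul_comm]
  exact k.trans (Nat.mul_le_mul_left _ ((Set.ncard_insert_le _ _).trans (by simp)))

end BN

end Cfsg.Agent.HI
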