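import Mathlib
import Cfsg.Agent.HI.Defs
import Cfsg.Agent.Gold.Defs

/-!
# The structure `BN` from the data at one pair of Sylow subgroups
-/

set_option autoImplicit false

namespace Cfsg.Agent.HI

open Subgroup Cfsg.Agent.Loc.Mss

universe u v

variable {G : Type u} {G' : Type v} [Group G] [Group G']

/-- The facts of `BN` for the pair `S`, `w S w⁻¹`. -/
structure Seed (N S : Subgroup G) (w : G) (q : ℕ) : Prop where
  simple : ∀ M ≤ N, N ≤ 𝐍[M] → M = ⊥ ∨ M = N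
  syl : Syl 2 S N
  wN : w ∈ N
  wn : w ∉ 𝐍[S]
  bru : ∀ g ∈ N, g ∉ 𝐍[S] → ∃ s ∈ S, ∃ b ∈ 𝐍[S], g = s * w * b
  om : ∀ x ∈ S, x * x = 1 ↔ x ∈ 𝐂[S]
  sq : ∀ x ∈ S, x * x ∈ 𝐂[S]
  cardZ : Nat.card (Zc S) = q
  four : 4 ≤ q
  ti : ∀ g ∈ N, ∀ x ∈ S, x ≠ 1 → g * x * g⁻¹ ∈ S → g ∈ 𝐍[S]
  cyc : IsCyclic (Hs N S cj(w, S))
  trans : ∀ z ∈ Zc S, ∀ z' ∈ Zc S, z ≠ 1 → z' ≠ 1 → ∃ h ∈ Hs N S cj(w, S), h * z * h⁻¹ = z'
  fpf : ∀ h ∈ Hs N S cj(w, S), h ≠ 1 → ∀ s ∈ S, h * s * h⁻¹ * s⁻¹ ∈ 𝐂[S] → s ∈ 𝐂[S]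
  ca : ∀ y ∈ S, y ∉ 𝐂[S] → ∀ a ∈ S, ∀ b ∈ S, Commute a y → Commute b y → Commute a b
  hom : ∀ φ : G → G, (∀ x ∈ S, φ x ∈ Zc S) → (∀ x ∈ S, ∀ y ∈ S, φ (x * y) = φ x * φ y) →
    (∀ x ∈ Zc S, φ x = 1) → (∀ h ∈ Hs N S cj(w, S), ∀ x ∈ S, φ (h * x * h⁻¹) = h * φ x * h⁻¹) →
    ∀ x ∈ S, φ x = 1
  cases : Nat.card S = q ∨
    (Nat.card S = q ^ 2 ∧ (∃ n, Odd n ∧ q = 2 ^ n) ∧
      ∀ x ∈ S, ∀ y ∈ S, x * x = y * y → x⁻¹ * y ∈ 𝐂[S]) ∨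
    (Nat.card S = q ^ 3 ∧
      (Nat.card (Hs N S cj(w, S)) + 1 = q ^ 2 ∨ 3 * Nat.card (Hs N S cj(w, S)) + 1 = q ^ 2))

section Map

variable {f : G →* G'} (hf : Function.Injective f)
include hf

theorem mem_cent_map {S : Subgroup G} {x : G} : f x ∈ 𝐂[S.map f] ↔ x ∈ 𝐂[S] := by
  simp only [mem_cent]
  refine ⟨fun h a ha => hf (by rw [map_mul, map_mul, h _ (mem_map_of_mem f ha)]), ?_⟩
  rintro h _ ⟨a, ha, rfl⟩
  rw [← map_mul, h a ha, map_mul]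

theorem mem_norm_map {S : Subgroup G} {x : G} : f x ∈ 𝐍[S.map f] ↔ x ∈ 𝐍[S] := by
  rw [← cj_eq_iff, ← cj_eq_iff, ← map_cj, (map_injective hf).eq_iff]

theorem map_Zc (S : Subgroup G) : Zc (S.map f) = (Zc S).map f := by
  ext x
  refine ⟨?_, ?_⟩
  · rintro ⟨⟨x, hx, rfl⟩, h⟩
    exact ⟨x, ⟨hx, (mem_cent_map hf).1 h⟩, rfl⟩
  · rintro ⟨x, ⟨hx, h⟩, rfl⟩
    exact ⟨⟨x, hx, rfl⟩, (mem_cent_map hf).2 h⟩

theorem map_Hs (N S R : Subgroup G) : Hs (N.map f) (S.map f) (R.map f) = (Hs N S R).map f := by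
  ext x
  refine ⟨?_, ?_⟩
  · rintro ⟨⟨x, hx, rfl⟩, h1, h2⟩
    exact ⟨x, ⟨hx, (mem_norm_map hf).1 h1, (mem_norm_map hf).1 h2⟩, rfl⟩
  · rintro ⟨x, ⟨hx, h1, h2⟩, rfl⟩
    exact ⟨⟨x, hx, rfl⟩, (mem_norm_map hf).2 h1, (mem_norm_map hf).2 h2⟩

theorem Seed.map [Finite G] {N S : Subgroup G} {w : G} {q : ℕ} (h : Seed N S w q) :
    Seed (N.map f) (S.map f) (f w) q := by
  have hH : Hs (N.map f) (S.map f) cj(f w, S.map f) = (Hs N S cj(w, S)).map f := by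
    rw [← map_cj, map_Hs hf]
  have h1 : ∀ {x : G}, f x ≠ 1 → x ≠ 1 := fun h e => h (by rw [e, map_one])
  have hc : ∀ {x y : G}, Commute (f x) (f y) ↔ Commute x y := fun {x y} =>
    ⟨fun h => hf (by rw [map_mul, map_mul, h.eq]), fun h => h.map f⟩
  refine ⟨fun M hM hn => ?_, h.syl.map f, mem_map_of_mem f h.wN, mt (mem_norm_map hf).1 h.wn, ?_,
    ?_, ?_, by rw [map_Zc hf, card_map_of_injective hf, h.cardZ], h.four, ?_,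
    hH ▸ (equivMapOfInjective _ f hf).isCyclic.1 h.cyc, ?_, ?_, ?_,
    fun φ e1 e2 e3 e4 => ?_, ?_⟩
  · obtain ⟨M, rfl⟩ : ∃ M₀ : Subgroup G, M₀.map f = M :=
      ⟨M.comap f, map_comap_eq_self (hM.trans (map_le_range f N))⟩
    rcases h.simple M ((map_le_map_iff_of_injective hf).1 hM)
      (fun x hx => (mem_norm_map hf).1 (hn (mem_map_of_mem f hx))) with rfl | rfl
    · exact Or.inl (map_bot f)
    · exact Or.inr rfl
  · rintro _ ⟨g, hg, rfl⟩ hn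
    obtain ⟨s, hs, b, hb, rfl⟩ := h.bru g hg (mt (mem_norm_map hf).2 hn)
    exact ⟨_, mem_map_of_mem f hs, _, (mem_norm_map hf).2 hb, by rw [map_mul, map_mul]⟩
  · rintro _ ⟨x, hx, rfl⟩
    rw [mem_cent_map hf, ← h.om x hx, ← map_mul, map_eq_one_iff f hf]
  · rintro _ ⟨x, hx, rfl⟩
    rw [← map_mul, mem_cent_map hf]
    exact h.sq x hx
  · rintro _ ⟨g, hg, rfl⟩ _ ⟨x, hx, rfl⟩ x1 e
    rw [← map_inv, ← map_mul, ← map_mul, mem_map_iff_mem hf] at e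
    exact (mem_norm_map hf).2 (h.ti g hg x hx (h1 x1) e)
  · rw [hH, map_Zc hf]
    rintro _ ⟨z, hz, rfl⟩ _ ⟨z', hz', rfl⟩ a b
    obtain ⟨t, ht, e⟩ := h.trans z hz z' hz' (h1 a) (h1 b)
    exact ⟨_, mem_map_of_mem f ht, by rw [← e, map_mul, map_mul, map_inv]⟩
  · rw [hH]
    rintro _ ⟨t, ht, rfl⟩ t1 _ ⟨s, hs, rfl⟩ e
    rw [← map_inv, ← map_inv, ← map_mul, ← map_mul, ← map_mul, mem_cent_map hf] at e
    exact (mem_cent_map hf).2 (h.fpf t ht (h1 t1) s hs e)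
  · rintro _ ⟨y, hy, rfl⟩ hn _ ⟨a, ha, rfl⟩ _ ⟨b, hb, rfl⟩ e1 e2
    exact hc.2 (h.ca y hy (mt (mem_cent_map hf).2 hn) a ha b hb (hc.1 e1) (hc.1 e2))
  · rw [map_Zc hf] at e1 e3
    rw [hH] at e4
    have k : ∀ x, ∃ y, x ∈ S → y ∈ Zc S ∧ f y = φ (f x) := fun x => by
      by_cases hx : x ∈ S
      · obtain ⟨y, hy, e⟩ := e1 _ (mem_map_of_mem f hx)
        exact ⟨y, fun _ => ⟨hy, e⟩⟩
      · exact ⟨1, fun h => absurd h hx⟩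
    choose ψ hψ using k
    rintro _ ⟨x, hx, rfl⟩
    rw [← (hψ x hx).2, h.hom ψ (fun x hx => (hψ x hx).1) (fun x hx y hy => hf (by
      rw [map_mul, (hψ _ (mul_mem hx hy)).2, (hψ x hx).2, (hψ y hy).2, map_mul,
        e2 _ (mem_map_of_mem f hx) _ (mem_map_of_mem f hy)])) (fun x hx => hf (by
      rw [(hψ x hx.1).2, e3 _ (mem_map_of_mem f hx), map_one])) (fun t ht x hx => hf (by
      rw [(hψ _ (conj_mem_of_norm ht.2.1 hx)).2, map_mul, map_mul, map_inv,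
        e4 _ (mem_map_of_mem f ht) _ (mem_map_of_mem f hx), map_mul, map_mul, map_inv,
        (hψ x hx).2])) x hx, map_one]
  · rw [hH, card_map_of_injective hf, card_map_of_injective hf]
    refine h.cases.imp_right (Or.imp_left fun ⟨a, b, c⟩ => ⟨a, b, ?_⟩)
    rintro _ ⟨x, hx, rfl⟩ _ ⟨y, hy, rfl⟩ e
    rw [← map_inv, ← map_mul, mem_cent_map hf]
    exact c x hx y hy (hf (by rwa [map_mul, map_mul]))

end Map

variable [Finite G] {N S : Subgroup G} {w : G} {q : ℕ}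

theorem Seed.conj (h : Seed N S w q) {g : G} (hg : g ∈ N) : Seed N cj(g, S) (g * w * g⁻¹) q := by
  have := h.map (cj_inj g)
  rwa [cj_of_mem hg] at this

theorem Seed.of_syl (h : Seed N S w q) {R : Subgroup G} (hR : Syl 2 R N) : ∃ w, Seed N R w q := by
  obtain ⟨g, hg, rfl⟩ := h.syl.conj_eq hR
  exact ⟨_, h.conj hg⟩

theorem Seed.reg (h : Seed N S w q) {R : Subgroup G} (hR : Syl 2 R N) (hne : R ≠ S) :
    ∃ s ∈ S, cj(s, cj(w, S)) = R := by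
  obtain ⟨g, hg, rfl⟩ := h.syl.conj_eq hR
  obtain ⟨s, hs, b, hb, rfl⟩ := h.bru g hg (mt cj_of_norm hne)
  exact ⟨s, hs, by rw [← cj_cj S b, cj_of_norm hb, cj_cj]⟩

theorem Seed.of_pair (h : Seed N S w q) {P R : Subgroup G} (hP : Syl 2 P N) (hR : Syl 2 R N)
    (hne : R ≠ P) : ∃ w, Seed N P w q ∧ cj(w, P) = R := by
  obtain ⟨w, h⟩ := h.of_syl hP
  obtain ⟨s, hs, rfl⟩ := h.reg hR hne
  have := h.conj (hP.le hs)
  rw [cj_of_mem hs] at this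
  exact ⟨_, this, by rw [← cj_cj P s⁻¹, cj_of_mem (inv_mem hs), cj_cj]⟩

theorem Seed.bn (h : Seed N S w q) : BN N q where
  simple := h.simple
  two hP := (h.of_syl hP).elim fun w k => ⟨_, hP.cj_mem k.wN, mt cj_eq_iff.1 k.wn⟩
  om hP := (h.of_syl hP).elim fun _ k => k.om
  sq hP := (h.of_syl hP).elim fun _ k => k.sq
  cardZ hP := (h.of_syl hP).elim fun _ k => k.cardZ
  four := h.four
  ti hP hR x hx hx' h1 := (h.of_syl hP).elim fun _ k => by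
    obtain ⟨g, hg, rfl⟩ := hP.conj_eq hR
    have := k.ti g⁻¹ (inv_mem hg) x hx h1 (by simpa using mem_cj.1 hx')
    exact (cj_of_norm (inv_mem_iff.1 this)).symm
  reg hP hR hR' h1 h2 := by
    obtain ⟨w, k, rfl⟩ := h.of_pair hP hR h1
    exact k.reg hR' h2
  cyc hP hR h1 := by obtain ⟨w, k, rfl⟩ := h.of_pair hP hR h1; exact k.cyc
  trans hP hR h1 := by obtain ⟨w, k, rfl⟩ := h.of_pair hP hR h1; exact k.trans
  fpf hP hR h1 := by obtain ⟨w, k, rfl⟩ := h.of_pair hP hR h1; exact k.fpf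
  ca hP := (h.of_syl hP).elim fun _ k => k.ca
  hom hP hR h1 := by obtain ⟨w, k, rfl⟩ := h.of_pair hP hR h1; exact k.hom
  cases hP hR h1 := by obtain ⟨w, k, rfl⟩ := h.of_pair hP hR h1; exact k.cases

/-- Transport of a seed in a model to a subgroup. -/
theorem Seed.bn_of_equiv [Finite G'] {S : Subgroup G'} {w : G'} (h : Seed ⊤ S w q) (e : N ≃* G') :
    BN N q ∧ ∀ R, Syl 2 R N → Nat.card R = Nat.card S := by
  have hf : Function.Injective (N.subtype.comp e.symm.toMonoidHom) :=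
    N.subtype_injective.comp e.symm.injective
  have := h.map hf
  rw [← map_map, map_top_of_surjective _ e.symm.surjective, map_subtype_top] at this
  exact ⟨this.bn, fun R hR => by rw [hR.card_eq this.syl, ← map_map, map_map,
    card_map_of_injective hf]⟩

/-- A seed from `BenderFacts` and the Bruhat decomposition. -/
theorem seed_of [IsSimpleGroup G] {Z T : Subgroup G} (bf : Gold.BenderFacts S Z) (syl : Syl 2 S ⊤)
    (wn : w ∉ 𝐍[S]) (bru : ∀ g, g ∉ 𝐍[S] → ∃ s ∈ S, ∃ b ∈ 𝐍[S], g = s * w * b)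
    (hB : ∀ b ∈ 𝐍[S], ∃ s ∈ S, ∃ t ∈ T, b = s * t) (h1 : T ≤ 𝐍[S])
    (h2 : ∀ t ∈ T, w⁻¹ * t * w ∈ 𝐍[S]) (cyc : IsCyclic T)
    (fpf : ∀ t ∈ T, t ≠ 1 → ∀ s ∈ S, t * s * t⁻¹ * s⁻¹ ∈ Z → s ∈ Z)
    (ca : ∀ y ∈ S, y ∉ Z → ∀ a ∈ S, ∀ b ∈ S, Commute a y → Commute b y → Commute a b)
    (hq : Nat.card Z = q)
    (cases : Nat.card S = q ∨
      (Nat.card S = q ^ 2 ∧ (∃ n, Odd n ∧ q = 2 ^ n) ∧
        ∀ x ∈ S, ∀ y ∈ S, x * x = y * y → x⁻¹ * y ∈ Z) ∨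
      (Nat.card S = q ^ 3 ∧ (Nat.card T + 1 = q ^ 2 ∨ 3 * Nat.card T + 1 = q ^ 2))) :
    Seed ⊤ S w q := by
  have hZ : Zc S = Z := Subgroup.ext fun x => by
    rw [bf.mem_Z', mem_Zc, mem_cent]
    exact and_congr_right fun _ => forall₂_congr fun _ _ => eq_comm
  have hZ' : ∀ {x}, x ∈ S → (x ∈ 𝐂[S] ↔ x ∈ Z) := fun hx => by rw [← hZ, mem_Zc, and_iff_right hx]
  have hw : ∀ t, t ∈ 𝐍[cj(w, S)] ↔ w⁻¹ * t * w ∈ 𝐍[S] := fun t => by rw [← cj_norm, mem_cj]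
  have hT : Hs ⊤ S cj(w, S) = T := Subgroup.ext fun b => by
    refine ⟨fun ⟨_, e1, e2⟩ => ?_, fun ht => ⟨mem_top _, h1 ht, (hw b).2 (h2 b ht)⟩⟩
    obtain ⟨s, hs, t, ht, rfl⟩ := hB b e1
    have e3 : s ∈ 𝐍[cj(w, S)] := (mul_mem_cancel_right ((hw t).2 (h2 t ht))).1 e2
    have e4 : s ∈ cj(w, S) := (syl.cj_mem (mem_top w)).le_of_norm'
      (syl.pg.to_le (zpowers_le.2 hs)) le_top (zpowers_le.2 e3) (mem_zpowers s)
    by_cases e5 : s = 1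
    · rwa [e5, one_mul]
    · exact absurd (inv_mem_iff.1 (bf.ti w⁻¹ s hs e5 (by simpa using mem_cj.1 e4))) wn
  have hc : ∀ {s z}, s ∈ S → z ∈ Z → s * z * s⁻¹ = z := fun hs hz => by
    rw [← ((bf.mem_Z' _).1 hz).2 _ hs, mul_inv_cancel_right]
  have hn : ∀ {t z}, t ∈ T → z ∈ Z → t * z * t⁻¹ ∈ Z := fun ht hz =>
    hZ ▸ conj_mem_of_norm (norm_Zc (h1 ht)) (hZ ▸ hz)
  refine ⟨fun M _ hM => (normal_of_top hM).eq_bot_or_eq_top, syl, mem_top _, wn,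
    fun g _ => bru g, fun x hx => by rw [hZ' hx, bf.mem_Z, and_iff_right hx],
    fun x hx => (hZ' (mul_mem hx hx)).2 (bf.sq_mem x hx), hZ ▸ hq, hq ▸ bf.four_le,
    fun g _ => bf.ti g, hT ▸ cyc, ?_, ?_, fun y hy hy' => ca y hy (mt (hZ' hy).2 hy'), ?_, ?_⟩
  · rw [hZ, hT]
    intro z hz z' hz' a b
    obtain ⟨n, hn', e⟩ := bf.trans z hz z' hz' a b
    obtain ⟨s, hs, t, ht, rfl⟩ := hB n hn'
    exact ⟨t, ht, by rw [← e, ← hc hs (hn ht hz)]; group⟩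
  · rw [hT]
    intro t ht t1 s hs e
    exact (hZ' hs).2 (fpf t ht t1 s hs
      ((hZ' (mul_mem (conj_mem_of_norm (h1 ht) hs) (inv_mem hs))).1 e))
  · rw [hZ, hT]
    intro φ e1 e2 e3 e4
    refine bf.hom φ e1 e2 e3 fun n hn' x hx => ?_
    obtain ⟨s, hs, t, ht, rfl⟩ := hB n hn'
    have hy := conj_mem_of_norm (h1 ht) hx
    have e5 : φ s * φ s⁻¹ = 1 := by rw [← e2 s hs _ (inv_mem hs), mul_inv_cancel, e3 1 (one_mem _)]
    calc φ (s * t * x * (s * t)⁻¹) = φ (s * (t * x * t⁻¹) * s⁻¹) := by congr 1; group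
      _ = φ s * φ (t * x * t⁻¹) * φ s⁻¹ := by
        rw [e2 _ (mul_mem hs hy) _ (inv_mem hs), e2 _ hs _ hy]
      _ = φ (t * x * t⁻¹) := by
        rw [((bf.mem_Z' _).1 (e1 s hs)).2 _ ((bf.mem_Z _).1 (e1 _ hy)).1, mul_assoc, e5, mul_one]
      _ = s * (t * φ x * t⁻¹) * s⁻¹ := by rw [hc hs (hn ht (e1 x hx)), e4 t ht x hx]
      _ = _ := by group
  · rw [hT]
    exact cases.imp_right (Or.imp_left fun ⟨a, b, c⟩ => ⟨a, b, fun x hx y hy e =>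
      (hZ' (mul_mem (inv_mem hx) hy)).2 (c x hx y hy e)⟩)

end Cfsg.Agent.HI
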