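import Mathlib
import Cfsg.Prelude.Def_Classical
import Cfsg.Prelude.Def_Sz
import Cfsg.Prelude.Def_LieExceptional
import Cfsg.Agent.HI.Defs
import Cfsg.Agent.HI.Seed
import Cfsg.Agent.Gold.BenderModels
import Cfsg.Agent.CIT.Models
import Cfsg.Agent.S0283

/-!
# `L₂(2ⁿ)`, `Sz(2ⁿ)` and `U₃(2ⁿ)` satisfy `BN`
-/

set_option autoImplicit false

namespace Cfsg.Agent.HI

open Subgroup Cfsg.Agent.Loc.Mss Cfsg.Agent.GT

universe u v

section SL2

open Matrix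

variable {F : Type*} [Field F]

variable (F) in
/-- The diagonal matrices. -/
def sdg : Fˣ →* SpecialLinearGroup (Fin 2) F where
  toFun k := ⟨!![(k : F), 0; 0, ((k⁻¹ : Fˣ) : F)], by simp [det_fin_two]⟩
  map_one' := Subtype.ext (by simp [one_fin_two])
  map_mul' k l := Subtype.ext (show _ = (_ * _ : Matrix (Fin 2) (Fin 2) F) by simp [mul_comm])

variable (F) in
/-- The Weyl element. -/
def sw : SpecialLinearGroup (Fin 2) F := ⟨!![0, -1; 1, 0], by simp [det_fin_two]⟩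

theorem coe_sdg (k : Fˣ) : (sdg F k).1 = !![(k : F), 0; 0, ((k⁻¹ : Fˣ) : F)] := rfl

theorem coe_sw : (sw F).1 = !![0, -1; 1, 0] := rfl

theorem sw_conj (k : Fˣ) : (sw F)⁻¹ * sdg F k * sw F = sdg F k⁻¹ := by
  rw [mul_assoc, inv_mul_eq_iff_eq_mul]
  exact Subtype.ext (by simp [coe_sdg, coe_sw])

theorem of_norm_upU {g : SpecialLinearGroup (Fin 2) F} (hg : g ∈ 𝐍[upU F]) : g 1 0 = 0 := by
  obtain ⟨t, ht⟩ := conj_mem_of_norm hg (show slUp 1 ∈ upU F from ⟨1, rfl⟩)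
  have e : g * slUp 1 = slUp t * g := by rw [ht]; group
  simpa [mul_apply, Fin.sum_univ_two] using
    congrArg (fun X : SpecialLinearGroup (Fin 2) F => X 1 1) e

theorem seed_sl2 [Finite F] [CharP F 2] (h4 : 4 ≤ Nat.card F)
    [IsSimpleGroup (SpecialLinearGroup (Fin 2) F)] :
    Seed ⊤ (upU F) (sw F) (Nat.card F) := by
  refine seed_of (T := (sdg F).range) (Gold.benderFacts_sl2 h4) syl_upU
    (fun h => by simpa [sw] using of_norm_upU h) (fun g hg => ?_) (fun b hb => ?_) ?_ ?_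
    (isCyclic_of_surjective _ (sdg F).rangeRestrict_surjective) (fun _ _ _ _ hs _ => hs)
    (fun _ hy hy' => absurd hy hy') card_upU (Or.inl card_upU)
  · have h0 : g.1 1 0 ≠ 0 := mt mem_norm_upU hg
    have hd := g.2
    rw [det_fin_two] at hd
    refine ⟨slUp (g.1 0 0 / g.1 1 0), ⟨_, rfl⟩, ⟨!![g.1 1 0, g.1 1 1; 0, (g.1 1 0)⁻¹],
      by simp [det_fin_two, h0]⟩, mem_norm_upU rfl, Subtype.ext ?_⟩
    change _ = (!![1, _; 0, 1] * !![0, -1; 1, 0] * !![_, _; _, _] : Matrix (Fin 2) (Fin 2) F)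
    ext i j
    fin_cases i <;> fin_cases j <;> simp [h0]
    field_simp
    linear_combination -hd
  · have h0 : b.1 1 0 = 0 := of_norm_upU hb
    have hd := b.2
    rw [det_fin_two, h0, mul_zero, sub_zero] at hd
    have h1 := left_ne_zero_of_mul_eq_one hd
    refine ⟨slUp (b.1 0 1 * b.1 0 0), ⟨_, rfl⟩, _, ⟨Units.mk0 _ h1, rfl⟩, Subtype.ext ?_⟩
    ext i j
    fin_cases i <;> fin_cases j <;> simp [coe_sdg, h0, h1, eq_inv_of_mul_eq_one_right hd]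
  · rintro _ ⟨k, rfl⟩
    exact mem_norm_upU rfl
  · rintro _ ⟨k, rfl⟩
    rw [sw_conj]
    exact mem_norm_upU rfl

end SL2

section Sz

open Cfsg.Agent.Chev.Sz

variable {F : Type*} [Field F] {m : ℕ} [SzF F m]

theorem seed_sz : Seed ⊤ (sylU F m) we (Nat.card F) := by
  have hN : 𝐍[sylU F m] = borel F m := normalizer_sylU
  refine seed_of (T := torH F m) Gold.benderFacts_sz (Syl.of_sylow (sylowU F m))
    (hN ▸ we_not_mem_borel) ?_ ?_ (hN ▸ torH_le_borel) ?_ inferInstance ?_ ?_ card_cenZ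
    (Or.inr (Or.inl ⟨card_sylU, ⟨2 * m + 1, odd_two_mul_add_one m, card_F F⟩, ?_⟩))
  · rw [hN]
    intro g hg
    obtain ⟨a, b, c, d, k, rfl⟩ := bruhat hg
    exact ⟨_, ue_mem_sylU a b, _, mem_borel.2 ⟨c, d, k, rfl⟩, rfl⟩
  · rw [hN]
    intro b hb
    obtain ⟨c, d, k, rfl⟩ := mem_borel.1 hb
    exact ⟨_, ue_mem_sylU c d, _, he_mem_torH k, rfl⟩
  · rintro _ ⟨k, rfl⟩
    rw [hN, we_inv, heHom_apply, we_conj_he]
    exact torH_le_borel (he_mem_torH _)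
  · rintro _ ⟨k, rfl⟩ h1 _ ⟨a, b, rfl⟩ e
    rw [heHom_apply, he_conj_ue, ue_inv, ue_mul, ue_mem_cenZ] at e
    rw [ue_mem_cenZ]
    by_contra ha
    refine h1 (he_eq_one.2 (Units.ext (mul_right_cancel₀ ha ?_)))
    rw [CharTwo.add_eq_zero.1 e, Units.val_one, one_mul]
  · rintro _ ⟨y, y', rfl⟩ hy _ ⟨a, a', rfl⟩ _ ⟨b, b', rfl⟩ e1 e2
    have e3 := ue_comm_iff.1 e1.eq
    have e4 := ue_comm_iff.1 e2.eq
    refine ue_comm_iff.2 (mul_right_cancel₀ (mt ue_mem_cenZ.2 hy) ?_)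
    linear_combination b * e3 - a * e4
  · rintro _ ⟨a, b, rfl⟩ _ ⟨c, d, rfl⟩ h
    rw [ue_mul_self, ue_mul_self, ue_inj] at h
    rw [ue_inv, ue_mul, ue_mem_cenZ, mul_th_injective h.2, CharTwo.add_self_eq_zero]

end Sz

section U3

open Cfsg.Agent.Cl

variable {F : Type*} [Field F] {σ : F →+* F} {q : ℕ}

theorem seed_u3 {hσ : UInvol σ} (hq : UField σ q) [CharP F 2] (h4 : 4 ≤ q) {G : Type*} [Group G]
    [Finite G] [IsSimpleGroup G] (D : U3Data hσ G) (hh : ∀ a, D.h a = 1 ↔ uLam σ a = 1) :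
    Seed ⊤ D.u.range D.w q := by
  have := hq.finite
  have hN : 𝐍[D.u.range] = D.B := D.normalizer_range_u
  have hZ : ∀ x, D.u x ∈ (center _).map D.u ↔ x.b = 0 := fun x => by
    rw [mem_map_iff_mem D.u_injective, UHeis.mem_center_iff]
  refine seed_of (T := D.h.range) (Gold.benderFacts_u3 hq h4 D) (Syl.of_sylow (D.sylow 2))
    (hN ▸ D.w_notMem_B) ?_ ?_ (hN ▸ D.range_h_le_B) ?_
    (isCyclic_of_surjective _ D.h.rangeRestrict_surjective) ?_ ?_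
    (by rw [card_map_of_injective D.u_injective, UHeis.card_center hq])
    (Or.inr (Or.inr ⟨D.card_range_u hq, ?_⟩))
  · rw [hN]
    intro g hg
    obtain ⟨x, y, a, rfl⟩ := (D.bruhat g).resolve_left (mt D.mem_B_iff.2 hg)
    exact ⟨_, ⟨x, rfl⟩, _, D.mem_B_iff.2 ⟨y, a, rfl⟩, rfl⟩
  · rw [hN]
    intro b hb
    obtain ⟨x, a, rfl⟩ := D.mem_B_iff.1 hb
    exact ⟨_, ⟨x, rfl⟩, _, ⟨a, rfl⟩, rfl⟩
  · rintro _ ⟨a, rfl⟩
    rw [hN, D.w_inv, D.w_h]
    exact D.h_mem_B _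
  · rintro _ ⟨a, rfl⟩ h1 _ ⟨x, rfl⟩ e
    rw [D.h_conj, ← map_inv, ← map_mul, hZ, UHeis.mul_b, UHeis.torus_b, UHeis.inv_b] at e
    rw [hZ]
    by_contra hx
    refine h1 ((hh a).2 (Units.ext (mul_right_cancel₀ hx ?_)))
    rw [add_neg_eq_zero.1 e, Units.val_one, one_mul]
  · rintro _ ⟨y, rfl⟩ hy _ ⟨a, rfl⟩ _ ⟨b, rfl⟩ e1 e2
    have e3 := UHeis.commute_iff.1 (D.u_injective (by rw [map_mul, map_mul, e1.eq]) : a * y = y * a)
    have e4 := UHeis.commute_iff.1 (D.u_injective (by rw [map_mul, map_mul, e2.eq]) : b * y = y * b)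
    refine (show Commute a b from UHeis.commute_iff.2
      (mul_right_cancel₀ (mt (hZ y).2 hy) ?_)).map D.u
    linear_combination b.b * e3 - a.b * e4
  · have e1 := D.h.ker.card_mul_index
    rw [index_ker, Nat.card_units, hq.card] at e1
    obtain ⟨g, hg⟩ := IsCyclic.exists_ofOrder_eq_natCard (α := D.h.ker)
    have e2 : Nat.card D.h.ker ∣ 3 := hg ▸ orderOf_dvd_of_pow_eq_one
      (Subtype.ext (hσ.uLam_eq_one_iff.1 ((hh g).1 g.2)).2)
    have e3 : 1 ≤ q ^ 2 := Nat.one_le_pow _ _ (by omega)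
    rcases (Nat.dvd_prime Nat.prime_three).1 e2 with e | e <;> rw [e] at e1 <;> omega

end U3

variable {G : Type u} [Group G] [Finite G] {N : Subgroup G}

theorem bn_psl {F : Type} [Field F] [Fintype F] {m : ℕ} (hF : Fintype.card F = 2 ^ m) (hm : 2 ≤ m)
    (e : N ≃* Matrix.ProjectiveSpecialLinearGroup (Fin 2) F) :
    BN N (2 ^ m) ∧ ∀ S, Syl 2 S N → Nat.card S = 2 ^ m := by
  have : CharP F 2 := charP_of_card_eq_prime_pow hF
  rw [← Nat.card_eq_fintype_card] at hF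
  have h4 : 4 ≤ Nat.card F := hF ▸ Nat.pow_le_pow_right two_pos hm
  obtain ⟨f⟩ := CIT.nonempty_psl2_equiv_sl2 (F := F)
  have := Cl.psl_fin_isSimpleGroup (F := F) le_rfl fun _ => h4
  have := f.symm.isSimpleGroup
  have := (seed_sl2 h4).bn_of_equiv (e.trans f)
  rwa [card_upU, hF] at this

theorem bn_sz (h : Lie.IsoSuzuki N) : ∃ q, BN N q ∧ ∀ S, Syl 2 S N → Nat.card S = q ^ 2 := by
  obtain ⟨F, _, m, _, ⟨e⟩⟩ := Chev.Sz.exists_of_isoSuzuki h
  have := seed_sz.bn_of_equiv e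
  rw [Chev.Sz.card_sylU] at this
  exact ⟨_, this⟩

theorem bn_psu {F : Type} [Field F] [Fintype F] {m : ℕ} (hF : Fintype.card F = (2 ^ m) ^ 2)
    (hm : 2 ≤ m) (e : N ≃* PSU 3 F (2 ^ m)) :
    BN N (2 ^ m) ∧ ∀ S, Syl 2 S N → Nat.card S = (2 ^ m) ^ 3 := by
  have : CharP F 2 := charP_of_card_eq_prime_pow (hF.trans (pow_mul 2 m 2).symm)
  have h4 : 4 ≤ 2 ^ m := Nat.pow_le_pow_right two_pos hm
  have hq := Cl.uField_uConj hF
  obtain ⟨D, -, hh⟩ := hq.exists_u3Data_PSU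
  have := S0283.result hF 3 le_rfl (by omega)
  have := D.finite
  have := (seed_u3 hq h4 D hh).bn_of_equiv e
  rwa [D.card_range_u hq] at this

end Cfsg.Agent.HI
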